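import Groth.Agent.GrSysLib.ThickVan
import Groth.Agent.CohCmpLib.RankOne
import Groth.Agent.CycKSuppLib.Killed
import Groth.Agent.KFlatLib.PerfectPull
import Groth.Agent.AVAmpleLib.CartierSection

/-!
# Sections of high powers lift along an adic system
-/

set_option autoImplicit false
universe u

open CategoryTheory CategoryTheory.Limits AlgebraicGeometry Opposite TopologicalSpace
open KFlatLib (pb puSec)

noncomputable section

namespace AlgzLib

section Twist

variable {X : Scheme.{u}}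

/-- `P ⊗ O ≅ P`. -/
def twistUnitIso (P : X.Modules) : CohB1.tensorMod P (Coh.structureModule X) ≅ P :=
  KFlatLib.tensSwap (Coh.structureModule X) P ≪≫ KFlatLib.tensUnitIso P

lemma isInvertible_structureModule (X : Scheme.{u}) : PicF.IsInvertible (Coh.structureModule X) :=
  AmpleThLib.tensorPow_isInvertible (L := Coh.structureModule X) (n := 0)
    (TwistLib.isInvertible_of_genOn (fun _ : Unit => (⊤ : X.Opens)) (fun _ => ⟨(), trivial⟩)
      (fun _ => (1 : Γ(X, ⊤))) fun _ => AmpleLib.one_genOn ⊤)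

end Twist

variable {A : Type u} [CommRing A] [IsNoetherianRing A] {J : Ideal A} (T : GrSysLib.Thick A J)
variable (L : ∀ k, (T.X k).Modules) (hL : ∀ k, PicF.IsInvertible (L k))
  (φ : ∀ k, (Scheme.Modules.pullback (T.i k)).obj (L (k + 1)) ≅ L k) (hA : CohB1.IsAmple (L 0))

include hL φ in
/-- The powers form a system. -/
lemma nonempty_powIso (n k : ℕ) :
    Nonempty ((Scheme.Modules.pullback (T.i k)).obj (CohB1.tensorPow (L (k + 1)) n) ≅ CohB1.tensorPow (L k) n) := by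
  obtain ⟨a, -⟩ := AmpleDevLib.exists_pullPowIso (T.i k) (hL (k + 1)) n
  obtain ⟨b⟩ := GrSysLib.nonempty_tensorPow_congr (φ k) n
  exact ⟨a ≪≫ b⟩

include hL φ hA in
/-- **Sections of high powers lift to the next level.** -/
theorem exists_lift_bound : ∃ n₁ : ℕ, ∀ n, n₁ ≤ n → ∀ k,
    ∀ s : Γ((Scheme.Modules.pullback (T.i k)).obj (CohB1.tensorPow (L (k + 1)) n), ⊤),
      ∃ t : Γ(CohB1.tensorPow (L (k + 1)) n, ⊤), puSec (T.i k) (U := ⊤) t = s := by
  let F : ∀ k, (T.X k).Modules := fun k => Coh.structureModule (T.X k)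
  let ψ : ∀ k, (Scheme.Modules.pullback (T.i k)).obj (F (k + 1)) ≅ F k := fun k => KFlatLib.pullUnitIso (T.i k)
  have hF : ∀ k, Coh.IsCoh (F k) := fun k => CurvLib.isCoh_of_isInvertible (isInvertible_structureModule _)
  have : ∀ k, Coh.IsQCoh (F k) := fun k => (hF k).1
  obtain ⟨r, a, hspan⟩ : ∃ (r : ℕ) (a : Fin r → A), Ideal.span (Set.range a) = J :=
    Submodule.fg_iff_exists_fin_generating_family.1 (IsNoetherian.noetherian J)
  have ha : ∀ i, a i ∈ J := fun i => hspan ▸ Ideal.subset_span ⟨i, rfl⟩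
  obtain ⟨n₁, h₁⟩ := GrSysLib.exists_uniform_vanishing (T.X 0 ↘ Spec (CommRingCat.of A)) (hL 0) hA r _
    (GrSysLib.isGenCoh_thickSys T F ψ a ha (hF 0))
  refine ⟨n₁, fun n hn k s => ?_⟩
  obtain ⟨ν, hz, hS⟩ := GrSysLib.exists_step T F ψ a ha (hF 0) hspan k
  obtain ⟨e⟩ := GrSysLib.nonempty_L_zero T L φ (k + 1)
  let P := CohB1.tensorPow (L (k + 1)) n
  have hP : PicF.IsInvertible P := AmpleThLib.tensorPow_isInvertible (hL _) n
  have hSE := HilbPolyLib.shortExact_tensor hP hS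
  have hSA := QCohLib.toAbF_shortExact hSE
  have hKq : Coh.IsQCoh (GrSysLib.kerObj T F ψ a ha (k + 1)) :=
    (GrSysLib.isCoh_kerObj T F ψ a ha (hF 0) (k + 1)).1
  have hK1 : Subsingleton (Coh.HH (T.X (k + 1)) (CohB1.tensorMod P
      ((GrSysLib.Pf (GrSysLib.toLvl T (k + 1))).obj (GrSysLib.kerObj T F ψ a ha (k + 1)))) 1) :=
    GrSysLib.subsingleton_twist_push (GrSysLib.toLvl T (k + 1)) (hL _) (hL 0) e n _ 1 (h₁ n hn (k + 1) 1 one_pos)
  have hs : Function.Surjective (((CurvLib.tensorLeft' P).map (GrSysLib.res' T F ψ k)).app ⊤) := fun s => by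
    have h1 : Subsingleton (QCohLib.HU ((QCohLib.toAbF _).obj (CohB1.tensorMod P
        ((GrSysLib.Pf (GrSysLib.toLvl T (k + 1))).obj (GrSysLib.kerObj T F ψ a ha (k + 1))))) 1 ⊤) :=
      (QCohLib.subsingleton_H_iff _ _).1 hK1
    exact @QCohLib.exists_lift_of_subsingleton _ _ hSA ⊤ h1 s
  let N := CohB1.tensorMod (CohB1.tensorPow (L k) n) (F k)
  obtain ⟨eF⟩ := GrSysLib.nonempty_twist_push (T.i k) (hL _) (φ k) n (F k)
  have : Epi ((CurvLib.tensorLeft' P).map (GrSysLib.res' T F ψ k)) := hSE.epi_g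
  let f' : P ⟶ (GrSysLib.Pf (T.i k)).obj N :=
    (twistUnitIso P).inv ≫ (CurvLib.tensorLeft' P).map (GrSysLib.res' T F ψ k) ≫ eF.hom
  let adj := Scheme.Modules.pullbackPushforwardAdjunction (T.i k)
  let g : (Scheme.Modules.pullback (T.i k)).obj P ⟶ N := (adj.homEquiv _ _).symm f'
  have hg : adj.unit.app P ≫ (GrSysLib.Pf (T.i k)).map g = f' :=
    (adj.homEquiv_unit _ _ g).symm.trans ((adj.homEquiv _ _).apply_symm_apply f')
  have : Epi ((GrSysLib.Pf (T.i k)).map g) := by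
    have h2 : Epi ((CurvLib.tensorLeft' P).map (GrSysLib.res' T F ψ k)) := hSE.epi_g
    have h3 : Epi ((CurvLib.tensorLeft' P).map (GrSysLib.res' T F ψ k) ≫ eF.hom) := @epi_comp _ _ _ _ _ _ h2 _ inferInstance
    have : Epi f' := @epi_comp _ _ _ _ _ (twistUnitIso P).inv inferInstance _ h3
    exact @epi_of_epi _ _ _ _ _ (adj.unit.app P) _ (hg ▸ this)
  have : Epi g := (GrSysLib.Pf (T.i k)).epi_of_epi_map this
  have hN : PicF.IsInvertible N :=
    HilbPolyLib.isInvertible_of_iso (twistUnitIso _).symm (AmpleThLib.tensorPow_isInvertible (hL k) n)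
  have : IsIso g := CohCmpLib.isIso_of_epi_rank_one
    (CurvLib.locFree_of_isInvertible (AmpleDevLib.isInvertible_pb (T.i k) hP))
    (CurvLib.locFree_of_isInvertible hN) g
  have hinj : Function.Injective (g.app ⊤) := fun x y h => by
    have := congrArg ((inv g).app ⊤) h
    have hid : ∀ z, (inv g).app ⊤ (g.app ⊤ z) = z := fun z =>
      congrArg (fun u : _ ⟶ (Scheme.Modules.pullback (T.i k)).obj P => u.app ⊤ z) (IsIso.hom_inv_id g)
    rwa [hid, hid] at this
  have hbij : ∀ {M M' : (T.X (k + 1)).Modules} (u : M ≅ M'), Function.Surjective (u.hom.app ⊤) := fun u z =>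
    ⟨u.inv.app ⊤ z, congrArg (fun w => w.app ⊤ z) u.inv_hom_id⟩
  have hf' : Function.Surjective (f'.app ⊤) := fun z => by
    obtain ⟨z₁, rfl⟩ := hbij eF z
    obtain ⟨z₂, rfl⟩ := hs z₁
    obtain ⟨z₃, rfl⟩ := hbij (twistUnitIso P).symm z₂
    exact ⟨z₃, rfl⟩
  obtain ⟨t, ht⟩ := hf' (g.app ⊤ s)
  refine ⟨t, hinj ?_⟩
  exact (congrArg (fun u : P ⟶ _ => u.app ⊤ t) hg).trans ht

end AlgzLib

end
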