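import Groth.Agent.FormalCohLib.Push

/-!
# Completion and affine morphisms
-/

set_option autoImplicit false

noncomputable section

universe u

open CategoryTheory CategoryTheory.Limits AlgebraicGeometry TopologicalSpace Opposite
open FormalLib (rhoA)
open GrSysLib (trMap)

namespace FormalCohLib

variable {A : Type u} [CommRing A] {J : Ideal A} {X Y : Scheme.{u}} [X.Over (Spec (CommRingCat.of A))]
  [Y.Over (Spec (CommRingCat.of A))] (f : X ⟶ Y)
  (hf : f ≫ (Y ↘ Spec (CommRingCat.of A)) = X ↘ Spec (CommRingCat.of A))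

variable [AlgebraicGeometry.IsNoetherian X] [AlgebraicGeometry.IsNoetherian Y]

include hf in
/-- **Completion commutes with direct image along a affine morphism.** -/
theorem isIso_cmp_of_isAffineHom [IsAffineHom f] [QuasiCompact f] {F : X.Modules} (hF : Coh.IsCoh F) : IsIso (cmp (J := J) f hf F) := by
  have := hF.1
  have hN : Coh.IsQCoh ((Scheme.Modules.pushforward f).obj F) := QCohLib.isQCoh_pushforward f F
  obtain ⟨C, hC⟩ := exists_cover (X := Y)
  have hcov : ∀ y : Y, ∃ V : C, y ∈ V.1.1 := fun y => by obtain ⟨V, hV, hy⟩ := hC y; exact ⟨⟨V, hV⟩, hy⟩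
  have : ∀ n : ℕᵒᵖ, IsIso ((cmp (J := J) f hf F).app n) := fun ⟨n⟩ => by
    have h1 : Coh.IsQCoh ((Formal.completion J ((Scheme.Modules.pushforward f).obj F)).obj (op n)) :=
      isQCoh_modPow J _ (n + 1)
    have h2 : Coh.IsQCoh ((PF J f F).obj (op n)) :=
      haveI := isQCoh_modPow J F (n + 1)
      QCohLib.isQCoh_pushforward f (Formal.modPow J (n + 1) F)
    refine isIso_of_bijective_cover (fun V : C => V.1.1) (fun V => V.1.2) hcov _ fun V => ?_
    have hW : IsAffineOpen (f ⁻¹ᵁ V.1.1) := V.1.2.preimage f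
    have hπ : ∀ x : Γ((Scheme.Modules.pushforward f).obj F, V.1.1),
        ((cmp f hf F).app (op n)).app V.1.1 ((Formal.modPowπ J (n + 1) _).app V.1.1 x) =
          (Formal.modPowπ J (n + 1) F).app (f ⁻¹ᵁ V.1.1) x := fun x =>
      congrArg (fun t : (Scheme.Modules.pushforward f).obj F ⟶ (PF J f F).obj (op n) => t.app V.1.1 x) (π_cmp f hf F n)
    refine ⟨(injective_iff_map_eq_zero _).2 fun y hy => ?_, fun z => ?_⟩
    · obtain ⟨x, rfl⟩ := app_modPowπ_surjective J ((Scheme.Modules.pushforward f).obj F) (n + 1) V.1.2 y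
      have h0 := (app_modPowπ_eq_zero J F (n + 1) hW x).1 ((hπ x).symm.trans hy)
      rw [idU_pow] at h0
      refine eq_zero_of_mem_map_smul
        (AddMonoidHom.mk' (fun m : Γ(F, f ⁻¹ᵁ V.1.1) =>
          (Formal.modPowπ J (n + 1) ((Scheme.Modules.pushforward f).obj F)).app V.1.1 m)
          fun a b => map_add _ _ _) (fun a ha m => ?_) h0
      refine app_smulFamily_zero J _ (cokernel.condition _) ?_
      have e : (rhoA A (f ⁻¹ᵁ V.1.1) a • m : Γ(F, f ⁻¹ᵁ V.1.1)) =
          (rhoA A V.1.1 a • (show Γ((Scheme.Modules.pushforward f).obj F, V.1.1) from m) :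
            Γ((Scheme.Modules.pushforward f).obj F, V.1.1)) := by
        show _ = f.app V.1.1 (rhoA A V.1.1 a) • m
        rw [Scheme.Hom.app_eq_appLE, appLE_rhoA f hf]
      rw [e]
      exact smul_mem_idU J ha _
    · obtain ⟨x, hx⟩ := app_modPowπ_surjective J F (n + 1) hW z
      exact ⟨_, (hπ x).trans hx⟩
  exact NatIso.isIso_of_isIso_app _

end FormalCohLib

end
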