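import Groth.Agent.AmpleDevLib.Pull
import Groth.Agent.CohCmpLib.PuSec
import Groth.Agent.QCohLib.AffineFinite

/-!
# Generators and pullbacks, a local criterion for a free generator
-/

set_option autoImplicit false
universe u

open CategoryTheory CategoryTheory.Limits AlgebraicGeometry Opposite TopologicalSpace
open AmpleLib
open KFlatLib (pb puSec)

noncomputable section

namespace AlgzLib

variable {X Y Z : Scheme.{u}}

/-- Generation of an invertible module is detected after pullback. -/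
theorem genAt_puSec_iff (f : X ⟶ Y) {M : Y.Modules} (hM : PicF.IsInvertible M) {W : Y.Opens} (σ : Γ(M, W))
    {x : X} (hx : f x ∈ W) :
    GenAt (pb f M) (puSec f σ) (show x ∈ f ⁻¹ᵁ W from hx) ↔ GenAt M σ hx := by
  obtain ⟨U₀, e₀, hxU₀, he₀⟩ := TwistLib.exists_genOn hM (f x)
  have hxU : f x ∈ U₀ ⊓ W := ⟨hxU₀, hx⟩
  let e : Γ(M, U₀ ⊓ W) := res M inf_le_left e₀
  have he : GenOn M e := he₀.res inf_le_left
  obtain ⟨c, hc⟩ := (he (U₀ ⊓ W) le_rfl).2 (res M inf_le_right σ)
  dsimp only at hc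
  rw [res_refl] at hc
  rw [← genAt_res (f.preimage_mono (inf_le_right : U₀ ⊓ W ≤ W)) (puSec f σ)
      (show x ∈ f ⁻¹ᵁ (U₀ ⊓ W) from hxU),
    ← TwistLib.puSec_res f (inf_le_right : U₀ ⊓ W ≤ W), ← hc, TwistLib.puSec_smul,
    genAt_smul_iff _ _ (show x ∈ f ⁻¹ᵁ (U₀ ⊓ W) from hxU) (TwistLib.GenAt.puSec f (he.genAt hxU)),
    ← Scheme.preimage_basicOpen, ← genAt_res (inf_le_right : U₀ ⊓ W ≤ W) σ hxU, ← hc,
    genAt_smul_iff c e hxU (he.genAt hxU)]
  rfl

/-- Generation after two pullbacks. -/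
theorem genAt_puSec_comp {f : X ⟶ Y} {g : Y ⟶ Z} {h : X ⟶ Z} (e : h = f ≫ g) (M : Z.Modules) {W : Z.Opens}
    (σ : Γ(M, W)) {x : X} (hx : g (f x) ∈ W) :
    GenAt (pb f (pb g M)) (puSec f (puSec g σ)) (show x ∈ f ⁻¹ᵁ (g ⁻¹ᵁ W) from hx) ↔
      GenAt (pb h M) (puSec h σ) (show x ∈ h ⁻¹ᵁ W by subst e; exact hx) := by
  subst e
  refine ((TwistLib.genAt_app_iso ((Scheme.Modules.pullbackComp f g).app M) (W := f ⁻¹ᵁ (g ⁻¹ᵁ W))
    (puSec f (puSec g σ)) hx).symm).trans (Iff.of_eq ?_)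
  exact congrArg (fun t : Γ(pb (f ≫ g) M, f ⁻¹ᵁ (g ⁻¹ᵁ W)) => GenAt (pb (f ≫ g) M) t _)
    (CohCmpLib.pullbackComp_puSec f g M σ)

/-- A section spanning and with trivial annihilator up to units generates near the units. -/
theorem genAt_of_bounds {M : Y.Modules} [Coh.IsQCoh M] (hFT : CohB1.IsFT M) {U : Y.Opens} (hU : IsAffineOpen U)
    (t : Γ(M, U)) (a a' : Γ(Y, U)) (hspan : ∀ m : Γ(M, U), ∃ r : Γ(Y, U), a • m = r • t)
    (hann : ∀ r : Γ(Y, U), r • t = 0 → a' * r = 0) {y : Y} (hy : y ∈ U) (ha : y ∈ Y.basicOpen a)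
    (ha' : y ∈ Y.basicOpen a') : GenAt M t hy := by
  classical
  have hua : IsUnit (Y.presheaf.germ U y hy a) := (Scheme.mem_basicOpen Y a y hy).1 ha
  have hua' : IsUnit (Y.presheaf.germ U y hy a') := (Scheme.mem_basicOpen Y a' y hy).1 ha'
  refine ⟨(injective_iff_map_eq_zero (AddMonoidHom.mk' (fun c : Y.presheaf.stalk y => c • M.presheaf.germ U y hy t)
    fun c c' => add_smul _ _ _)).2 fun c hc => ?_, fun z => ?_⟩
  · change c • M.presheaf.germ U y hy t = 0 at hc
    obtain ⟨W, hyW, r, rfl⟩ := Y.presheaf.exists_germ_eq (x := y) c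
    obtain ⟨f, hfW, hyf⟩ := QCohLib.exists_basicOpen_nhd hU hyW hy
    have : Coh.IsQCoh (Coh.structureModule Y) := QCohLib.isQCoh_unit
    let r' : Γ(Y, Y.basicOpen f) := Y.presheaf.map (homOfLE hfW).op r
    obtain ⟨n, b₀, hb⟩ := (QCohLib.localizingAt_of_isQCoh hU (Coh.structureModule Y) f).exists_extend r'
    let b : Γ(Y, U) := b₀
    have hbgerm : Y.presheaf.germ U y hy b =
        Y.presheaf.germ U y hy f ^ n * Y.presheaf.germ W y hyW r := by
      have h1 := congrArg (fun s : Γ(Y, Y.basicOpen f) => Y.presheaf.germ (Y.basicOpen f) y hyf s) hb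
      refine ((Y.presheaf.germ_res_apply (homOfLE (Y.basicOpen_le f)) y hyf b).symm.trans h1).trans ?_
      refine (map_mul _ _ _).trans ?_
      refine congrArg₂ (· * ·) ?_ ?_
      · rw [map_pow]
        exact congrArg (· ^ n) (Y.presheaf.germ_res_apply _ y hyf f)
      · exact Y.presheaf.germ_res_apply _ y hyf r
    have hbt : M.presheaf.germ U y hy (b • t) = 0 := by
      rw [germ_smul, hbgerm, mul_smul, hc, smul_zero]
    obtain ⟨W', hyW', i₁, i₂, hW'⟩ := M.presheaf.germ_eq y hy hy (b • t) 0 (hbt.trans (map_zero _).symm)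
    obtain ⟨g, hgW, hyg⟩ := QCohLib.exists_basicOpen_nhd hU hyW' hy
    have h0 : M.presheaf.map (homOfLE (Y.basicOpen_le g)).op (b • t) = 0 := by
      have h2 := congrArg (M.presheaf.map (homOfLE hgW).op) hW'
      rw [← ConcreteCategory.comp_apply, ← Functor.map_comp, map_zero, map_zero] at h2
      exact h2
    obtain ⟨k, hk⟩ := (QCohLib.localizingAt_of_isQCoh hU M g).eq_zero (b • t) h0
    let gg : Γ(Y, U) := Y.presheaf.map (homOfLE (le_refl U)).op g
    have hk' : (gg ^ k * b) • t = 0 := by rw [mul_smul]; exact hk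
    have h3 := congrArg (Y.presheaf.germ U y hy) (hann _ hk')
    rw [map_zero, map_mul, map_mul, map_pow, hbgerm, hua'.mul_right_eq_zero] at h3
    have hug : IsUnit (Y.presheaf.germ U y hy gg) := by
      show IsUnit (Y.presheaf.germ U y hy (Y.presheaf.map _ g))
      rw [TopCat.Presheaf.germ_res_apply]
      exact (Scheme.mem_basicOpen Y g y hy).1 hyg
    have huf : IsUnit (Y.presheaf.germ U y hy f) := (Scheme.mem_basicOpen Y f y hy).1 hyf
    rwa [(hug.pow k).mul_right_eq_zero, (huf.pow n).mul_right_eq_zero] at h3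
  · obtain ⟨W, hyW, m, rfl⟩ := M.presheaf.exists_germ_eq (x := y) z
    obtain ⟨I, _, s, hs⟩ := QCohLib.exists_genOn_affine hFT hU
    let V := W ⊓ U
    obtain ⟨W', hW'V, hW'U, hyW', c, hc⟩ := hs V inf_le_right (res M inf_le_left m) y ⟨hyW, hy⟩
    choose r hr using fun i => hspan (s i)
    refine ⟨∑ i, Y.presheaf.germ W' y hyW' (c i) * (↑hua.unit⁻¹ * Y.presheaf.germ U y hy (r i)), ?_⟩
    have h1 := congrArg (M.presheaf.germ W' y hyW') hc
    rw [map_sum] at h1
    have hz : M.presheaf.germ W' y hyW' (M.presheaf.map (homOfLE hW'V).op (res M inf_le_left m)) =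
        M.presheaf.germ W y hyW m := by
      rw [TopCat.Presheaf.germ_res_apply, germ_res]
    show (∑ i, _) • M.presheaf.germ U y hy t = _
    rw [← hz, h1, Finset.sum_smul]
    refine Finset.sum_congr rfl fun i _ => ?_
    have h2 := congrArg (M.presheaf.germ U y hy) (hr i)
    rw [germ_smul, germ_smul] at h2
    rw [germ_smul, TopCat.Presheaf.germ_res_apply, mul_smul, mul_smul, ← h2, ← mul_smul (↑hua.unit⁻¹ : Y.presheaf.stalk y),
      IsUnit.val_inv_mul, one_smul]

end AlgzLib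

end
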