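import Groth.Agent.AlgzLib.Embed
import Groth.Agent.AlgzLib.Gens
import Groth.Agent.FormalCohLib.Proper
import Groth.Agent.FormalCohLib.Transfer
import Groth.Agent.VBResLib.RegPush
import Groth.Agent.FormalLib.Main
import Groth.Agent.S0051
import Groth.Agent.S5741

/-!
# Algebraisation of a formal invertible module, with ampleness
-/

set_option autoImplicit false
universe u

open CategoryTheory CategoryTheory.Limits AlgebraicGeometry Opposite TopologicalSpace
open AmpleLib
open KFlatLib (pb puSec)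
open FormalLib (rhoA)

noncomputable section

namespace AlgzLib

section Isos

variable {X : Scheme.{u}}

lemma nonempty_push_congr {Z : Scheme.{u}} {f : Z ⟶ X} {M N : Z.Modules} (e : M ≅ N) :
    Nonempty ((GrSysLib.Pf f).obj M ≅ (GrSysLib.Pf f).obj N) := ⟨(GrSysLib.Pf f).mapIso e⟩

end Isos

variable {A : Type u} [CommRing A] [IsNoetherianRing A] {J : Ideal A} (T : GrSysLib.Thick A J)
variable {W : Scheme.{u}} [W.Over (Spec (CommRingCat.of A))] (e : ∀ n, T.X n ⟶ W)
  (he : ∀ n, IsPullback (e n) (T.p n) (W ↘ Spec (CommRingCat.of A)) (CohB1.specQuot J n))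

include he

lemma e_over (n : ℕ) : e n ≫ (W ↘ Spec (CommRingCat.of A)) = T.X n ↘ Spec (CommRingCat.of A) := (he n).w

/-- A level is the thickening. -/
def lvlIso (n : ℕ) : T.X n ≅ CohB1.thick (W ↘ Spec (CommRingCat.of A)) J n :=
  (he n).isoPullback

lemma lvlIso_ι (n : ℕ) : (lvlIso T e he n).hom ≫ CohB1.thickι _ J n = e n := (he n).isoPullback_hom_fst

lemma isClosedImmersion_e (n : ℕ) : IsClosedImmersion (e n) := by
  rw [← lvlIso_ι T e he n]
  infer_instance

lemma ker_e (n : ℕ) : (e n).ker = FormalCohLib.idSheaf J ^ (n + 1) := by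
  rw [← FormalCohLib.ker_thickι J (X := W) n, ← lvlIso_ι T e he n]
  exact Scheme.Hom.ker_comp_of_isIso _ _

lemma ker_le_e (n : ℕ) (V : W.affineOpens) : (e n).ker.ideal V ≤ (J ^ (n + 1)).map (rhoA A V.1) := by
  rw [ker_e T e he, Scheme.IdealSheafData.ideal_pow]
  exact (Ideal.map_pow _ J (n + 1)).ge

lemma smulFamily_e (n : ℕ) (M : W.Modules) : Formal.smulFamily (J ^ (n + 1)) M ≫
    (Scheme.Modules.pullbackPushforwardAdjunction (e n)).unit.app M = 0 :=
  GrSysLib.smulFamily_unit (e n) (e_over T e he n) (J ^ (n + 1)) (fun _ hb => GrSysLib.toGlobal_eq_zero T n hb) M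

lemma isIso_desc_e (n : ℕ) (M : W.Modules) [Coh.IsQCoh M] :
    IsIso (cokernel.desc (Formal.smulFamily (J ^ (n + 1)) M)
      ((Scheme.Modules.pullbackPushforwardAdjunction (e n)).unit.app M) (smulFamily_e T e he n M)) :=
  have := isClosedImmersion_e T e he n
  GrSysLib.isIso_desc_unit (e n) (e_over T e he n) (J ^ (n + 1)) (fun _ hb => GrSysLib.toGlobal_eq_zero T n hb)
    (ker_le_e T e he n) M

/-- `e_* e^* M` is `M / J ^ (n + 1) M`. -/
def modPowIso (n : ℕ) (M : W.Modules) [Coh.IsQCoh M] :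
    Formal.modPow J (n + 1) M ≅ (GrSysLib.Pf (e n)).obj (pb (e n) M) :=
  @asIso _ _ _ _ (cokernel.desc (Formal.smulFamily (J ^ (n + 1)) M)
    ((Scheme.Modules.pullbackPushforwardAdjunction (e n)).unit.app M) (smulFamily_e T e he n M)) (isIso_desc_e T e he n M)

lemma π_modPowIso (n : ℕ) (M : W.Modules) [Coh.IsQCoh M] :
    Formal.modPowπ J (n + 1) M ≫ (modPowIso T e he n M).hom =
      (Scheme.Modules.pullbackPushforwardAdjunction (e n)).unit.app M :=
  cokernel.π_desc _ _ _

variable [AlgebraicGeometry.IsNoetherian W]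

/-- The sections vanishing on a level. -/
lemma puSec_eq_zero_iff (n : ℕ) {M : W.Modules} [Coh.IsQCoh M] {U : W.Opens} (hU : IsAffineOpen U) (m : Γ(M, U)) :
    puSec (e n) m = 0 ↔ m ∈ (FormalCohLib.idU J U ^ (n + 1) • ⊤ : Submodule Γ(W, U) Γ(M, U)) := by
  rw [← FormalCohLib.app_modPowπ_eq_zero J M (n + 1) hU]
  let d := modPowIso T e he n M
  have h : d.hom.app U ((Formal.modPowπ J (n + 1) M).app U m) = puSec (e n) m :=
    congrArg (fun t : M ⟶ _ => t.app U m) (π_modPowIso T e he n M)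
  refine ⟨fun hm => ?_, fun hm => ?_⟩
  · have h1 : d.inv.app U (d.hom.app U ((Formal.modPowπ J (n + 1) M).app U m)) = (Formal.modPowπ J (n + 1) M).app U m :=
      congrArg (fun t : Formal.modPow J (n + 1) M ⟶ Formal.modPow J (n + 1) M => t.app U ((Formal.modPowπ J (n + 1) M).app U m)) d.hom_inv_id
    rw [← h1, h, hm]
    exact map_zero _
  · rw [← h, hm]
    exact map_zero _

/-- Sections lift from the levels. -/
lemma puSec_surjective (n : ℕ) {M : W.Modules} [Coh.IsQCoh M] {U : W.Opens} (hU : IsAffineOpen U)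
    (s : Γ(pb (e n) M, e n ⁻¹ᵁ U)) : ∃ m : Γ(M, U), puSec (e n) m = s := by
  let d := modPowIso T e he n M
  obtain ⟨m, hm⟩ := FormalCohLib.app_modPowπ_surjective J M (n + 1) hU (d.inv.app U s)
  refine ⟨m, ?_⟩
  refine (congrArg (fun t : M ⟶ _ => t.app U m) (π_modPowIso T e he n M)).symm.trans ?_
  exact (congrArg (d.hom.app U) hm).trans (congrArg (fun t : (GrSysLib.Pf (e n)).obj (pb (e n) M) ⟶ (GrSysLib.Pf (e n)).obj (pb (e n) M) => t.app U s) d.inv_hom_id)

variable (hi : ∀ n, e n = T.i n ≫ e (n + 1))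

include hi in
/-- A module which is invertible on all levels is invertible near the special fibre. -/
theorem exists_genAt {M : W.Modules} (hM : Coh.IsCoh M) (hinv : ∀ n, PicF.IsInvertible (pb (e n) M))
    (z : T.X 0) : ∃ (V : W.Opens) (t : Γ(M, V)), e 0 z ∈ V ∧ ∀ y (hy : y ∈ V), GenAt M t hy := by
  classical
  have : Coh.IsQCoh M := hM.1
  have := isClosedImmersion_e T e he 0
  obtain ⟨U₀, ε, hzU₀, hε⟩ := TwistLib.exists_genOn (hinv 0) z
  obtain ⟨O', hO', hO''⟩ := (e 0).isClosedEmbedding.isInducing.isOpen_iff.mp U₀.2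
  obtain ⟨U, hU, hzU, hUO⟩ := exists_isAffineOpen_mem_and_subset (X := W) (x := e 0 z) (U := ⟨O', hO'⟩)
    (show z ∈ e 0 ⁻¹' O' from hO''.ge hzU₀)
  have hle : e 0 ⁻¹ᵁ U ≤ U₀ := fun y hy => hO''.le (show e 0 y ∈ O' from hUO hy)
  obtain ⟨t, ht⟩ := puSec_surjective T e he 0 hU (res _ hle ε)
  have hg0 : GenOn (pb (e 0) M) (puSec (e 0) t) := by rw [ht]; exact hε.res hle
  -- generation on every level
  have hgn : ∀ n (y : T.X n) (hy : e n y ∈ U),
      GenAt (pb (e n) M) (puSec (e n) t) (show y ∈ e n ⁻¹ᵁ U from hy) := by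
    intro n
    induction n with
    | zero => exact fun y hy => hg0.genAt hy
    | succ n ih =>
      intro y hy
      obtain ⟨x, rfl⟩ := (surjective_i T n).surj y
      have hx : e n x ∈ U := by rw [hi n]; exact hy
      exact (genAt_puSec_iff (T.i n) (hinv (n + 1)) (puSec (e (n + 1)) t)
        (show T.i n x ∈ e (n + 1) ⁻¹ᵁ U from hy)).1 ((genAt_puSec_comp (hi n) M t hy).2 (ih x hx))
  let IB := FormalCohLib.idU J U
  have : IsNoetherianRing Γ(W, U) := IsLocallyNoetherian.component_noetherian ⟨U, hU⟩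
  have := QCohLib.finite_of_isFT hM.2 hU
  -- spanning
  have hsp : (⊤ : Submodule Γ(W, U) Γ(M, U)) ≤ Submodule.span Γ(W, U) {t} ⊔ IB • ⊤ := fun m _ => by
    obtain ⟨c, hc⟩ := (hg0 _ le_rfl).2 (puSec (e 0) m)
    dsimp only at hc
    rw [res_refl] at hc
    obtain ⟨r, rfl⟩ := (e 0).app_surjective U hU c
    have h0 : puSec (e 0) (m - r • t) = 0 := by
      refine (map_sub (((Scheme.Modules.pullbackPushforwardAdjunction (e 0)).unit.app M).app U).hom m (r • t)).trans ?_
      exact sub_eq_zero.2 (hc.symm.trans (TwistLib.puSec_smul (e 0) r t).symm)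
    have := (puSec_eq_zero_iff T e he 0 hU _).1 h0
    rw [zero_add, pow_one] at this
    rw [← sub_add_cancel m (r • t)]
    exact add_mem (Submodule.mem_sup_right this)
      (Submodule.mem_sup_left (Submodule.smul_mem _ r (Submodule.mem_span_singleton_self t)))
  obtain ⟨a, ha1, ha2⟩ : ∃ a : Γ(W, U), a - 1 ∈ IB ∧ ∀ m : Γ(M, U), ∃ r : Γ(W, U), a • m = r • t := by
    let Q := Γ(M, U) ⧸ Submodule.span Γ(W, U) {t}
    have hQ : (⊤ : Submodule Γ(W, U) Q) ≤ IB • ⊤ := by
      rintro q -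
      obtain ⟨m, rfl⟩ := Submodule.Quotient.mk_surjective _ q
      obtain ⟨s, hs, u, hu, rfl⟩ := Submodule.mem_sup.1 (hsp (Submodule.mem_top (x := m)))
      rw [Submodule.Quotient.mk_add, (Submodule.Quotient.mk_eq_zero _).2 hs, zero_add]
      refine Submodule.smul_induction_on hu (fun r hr v _ => ?_) fun x y hx hy => by
        rw [Submodule.Quotient.mk_add]; exact add_mem hx hy
      rw [Submodule.Quotient.mk_smul]
      exact Submodule.smul_mem_smul hr Submodule.mem_top
    obtain ⟨a, ha1, ha⟩ := Submodule.exists_sub_one_mem_and_smul_eq_zero_of_fg_of_le_smul IB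
      (⊤ : Submodule Γ(W, U) Q) Module.Finite.fg_top hQ
    refine ⟨a, ha1, fun m => ?_⟩
    have := ha (Submodule.Quotient.mk m) Submodule.mem_top
    rw [← Submodule.Quotient.mk_smul, Submodule.Quotient.mk_eq_zero, Submodule.mem_span_singleton] at this
    obtain ⟨r, hr⟩ := this
    exact ⟨r, hr.symm⟩
  -- annihilator
  obtain ⟨a', ha'1, ha'2⟩ : ∃ a' : Γ(W, U), a' - 1 ∈ IB ∧ ∀ r : Γ(W, U), r • t = 0 → a' * r = 0 := by
    let N : Submodule Γ(W, U) Γ(W, U) := LinearMap.ker (LinearMap.toSpanSingleton Γ(W, U) Γ(M, U) t)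
    have : Coh.IsQCoh (Coh.structureModule W) := QCohLib.isQCoh_unit
    have hN : ∀ r ∈ N, r ∈ (⨅ i : ℕ, IB ^ i • ⊤ : Submodule Γ(W, U) Γ(W, U)) := fun r hr => by
      rw [Submodule.mem_iInf]
      intro i
      have hrt : r • t = 0 := hr
      have h1 : (e i).app U r • puSec (e i) t = 0 := by
        rw [← TwistLib.puSec_smul, hrt]
        exact map_zero (((Scheme.Modules.pullbackPushforwardAdjunction (e i)).unit.app M).app U).hom
      have hgi : GenOn (pb (e i) M) (puSec (e i) t) := TwistLib.genOn_of_genAt fun y hy => hgn i y hy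
      have h2 : (e i).app U r = 0 := (hgi _ le_rfl).1 (by
        simp only [res_refl]
        rw [h1, zero_smul])
      have h3 : puSec (e i) (r • (show Γ(Coh.structureModule W, U) from (1 : Γ(W, U)))) = 0 := by
        rw [TwistLib.puSec_smul, h2, zero_smul]
      have h4 := (puSec_eq_zero_iff T e he i hU _).1 h3
      have h5 : (r : Γ(W, U)) ∈ IB ^ (i + 1) := by
        have h6 : (show Γ(W, U) from r • (show Γ(Coh.structureModule W, U) from (1 : Γ(W, U)))) ∈ IB ^ (i + 1) :=
          Submodule.smul_induction_on (p := fun z : Γ(Coh.structureModule W, U) => (show Γ(W, U) from z) ∈ IB ^ (i + 1))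
            h4 (fun a ha m _ => Ideal.mul_mem_right (show Γ(W, U) from m) _ ha) fun x y hx hy => add_mem hx hy
        rwa [show (show Γ(W, U) from r • (show Γ(Coh.structureModule W, U) from (1 : Γ(W, U)))) = r from mul_one r] at h6
      rw [smul_eq_mul, Ideal.mul_top]
      exact Ideal.pow_le_pow_right (Nat.le_succ i) h5
    have hle : N ≤ IB • N := fun r hr => by
      obtain ⟨x, hx⟩ := (Ideal.mem_iInf_smul_pow_eq_bot_iff IB r).1 (hN r hr)
      rw [← hx]
      exact Submodule.smul_mem_smul x.2 hr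
    obtain ⟨a', h1, h2⟩ := Submodule.exists_sub_one_mem_and_smul_eq_zero_of_fg_of_le_smul IB N
      (IsNoetherian.noetherian N) hle
    exact ⟨a', h1, fun r hr => h2 r hr⟩
  let V : W.Opens := W.basicOpen a ⊓ W.basicOpen a'
  have hV : V ≤ U := inf_le_left.trans (W.basicOpen_le a)
  have hz : ∀ b : Γ(W, U), b - 1 ∈ IB → e 0 z ∈ W.basicOpen b := fun b hb => by
    have h0 : (e 0).app U b = 1 := by
      have h1 : (e 0).app U (b - 1) = 0 := by
        have hk : b - 1 ∈ (e 0).ker.ideal ⟨U, hU⟩ := by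
          rw [ker_e T e he, Scheme.IdealSheafData.ideal_pow]
          exact (pow_one IB).ge hb
        rwa [Scheme.Hom.ker_apply, RingHom.mem_ker] at hk
      rw [map_sub, map_one, sub_eq_zero] at h1
      exact h1
    show z ∈ e 0 ⁻¹ᵁ W.basicOpen b
    rw [Scheme.preimage_basicOpen, h0, Scheme.basicOpen_of_isUnit _ isUnit_one]
    exact hzU
  refine ⟨V, res M hV t, ⟨hz a ha1, hz a' ha'1⟩, fun y hy => ?_⟩
  rw [genAt_res]
  exact genAt_of_bounds hM.2 hU t a a' ha2 ha'2 (hV hy) hy.1 hy.2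

omit he [AlgebraicGeometry.IsNoetherian W] [IsNoetherianRing A] in
/-- The transition of the direct images. -/
def trPush (L : ∀ k, (T.X k).Modules) (φ : ∀ k, pb (T.i k) (L (k + 1)) ≅ L k) (hi : ∀ n, e n = T.i n ≫ e (n + 1))
    (n : ℕ) : (GrSysLib.Pf (e (n + 1))).obj (L (n + 1)) ⟶ (GrSysLib.Pf (e n)).obj (L n) :=
  (GrSysLib.Pf (e (n + 1))).map (GrSysLib.res' T L φ n) ≫
    (Scheme.Modules.pushforwardComp (T.i n) (e (n + 1))).hom.app (L n) ≫
      (Scheme.Modules.pushforwardCongr (hi n).symm).hom.app (L n)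

omit he [AlgebraicGeometry.IsNoetherian W] [IsNoetherianRing A] in
/-- The formal module. -/
def formalMod (L : ∀ k, (T.X k).Modules) (φ : ∀ k, pb (T.i k) (L (k + 1)) ≅ L k)
    (hi : ∀ n, e n = T.i n ≫ e (n + 1)) : ℕᵒᵖ ⥤ W.Modules :=
  Functor.ofOpSequence (X := fun n => (GrSysLib.Pf (e n)).obj (L n)) (trPush T e L φ hi)

variable (L : ∀ k, (T.X k).Modules) (φ : ∀ k, pb (T.i k) (L (k + 1)) ≅ L k) (hL : ∀ k, Coh.IsCoh (L k))

include hL in
theorem isCohFormal_formalMod : Formal.IsCohFormal J (formalMod T e L φ hi) := by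
  have : ∀ k, Coh.IsQCoh (L k) := fun k => (hL k).1
  have : ∀ n, IsClosedImmersion (e n) := isClosedImmersion_e T e he
  refine ⟨fun n => VBResLib.isCoh_push_of_isClosedImmersion (e n) (hL n), fun n => ?_, fun n => ?_⟩
  · exact FormalCohLib.killedBy_push (e n) (e_over T e he n)
      (fun a ha => GrSysLib.smulMod_eq_zero (J ^ (n + 1)) (fun _ hb => GrSysLib.toGlobal_eq_zero T n hb) (L n) ha)
  · let N := (GrSysLib.Pf (e (n + 1))).obj (L (n + 1))
    let t := trPush T e L φ hi n
    let iso : (GrSysLib.Pf (e (n + 1))).obj ((GrSysLib.Pf (T.i n)).obj (L n)) ≅ (GrSysLib.Pf (e n)).obj (L n) :=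
      (Scheme.Modules.pushforwardComp (T.i n) (e (n + 1))).app (L n) ≪≫
        (Scheme.Modules.pushforwardCongr (hi n).symm).app (L n)
    let d := cokernel.desc _ (GrSysLib.res' T L φ n) (GrSysLib.smulFamily_res' T L φ n)
    let c := (FormalCohLib.cmp (J := J) (e (n + 1)) (e_over T e he (n + 1)) (L (n + 1))).app (op n)
    have hπ : Formal.modPowπ J (n + 1) N ≫ c ≫ (GrSysLib.Pf (e (n + 1))).map d ≫ iso.hom = t := by
      refine (Category.assoc _ _ _).symm.trans ((congrArg (· ≫ _ ≫ iso.hom)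
        (FormalCohLib.π_cmp (e (n + 1)) (e_over T e he (n + 1)) (L (n + 1)) n)).trans ?_)
      refine (Category.assoc _ _ _).symm.trans ?_
      refine congrArg (· ≫ iso.hom) ?_
      refine ((GrSysLib.Pf (e (n + 1))).map_comp _ _).symm.trans (congrArg (GrSysLib.Pf (e (n + 1))).map ?_)
      exact cokernel.π_desc _ _ _
    have hT : (formalMod T e L φ hi).map (homOfLE (Nat.le_succ n)).op = t :=
      Functor.ofOpSequence_map_homOfLE_succ _ n
    have h0 : Formal.smulFamily (J ^ (n + 1)) N ≫ t = 0 := by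
      rw [← hπ, ← Category.assoc]
      refine (congrArg (· ≫ _) (cokernel.condition (Formal.smulFamily (J ^ (n + 1)) N))).trans zero_comp
    have : IsIso (FormalCohLib.cmp (J := J) (e (n + 1)) (e_over T e he (n + 1)) (L (n + 1))) :=
      FormalCohLib.isIso_cmp _ _ (hL (n + 1))
    have : IsIso d := GrSysLib.isIso_desc_res' T L φ n
    have e1 : cokernel.desc _ t h0 = c ≫ (GrSysLib.Pf (e (n + 1))).map d ≫ iso.hom := by
      apply coequalizer.hom_ext
      exact (cokernel.π_desc _ _ _).trans hπ.symm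
    have hc : IsIso c := inferInstance
    have hd : IsIso ((GrSysLib.Pf (e (n + 1))).map d) := inferInstance
    have h2 : IsIso (cokernel.desc _ t h0) := by
      rw [e1]
      exact @IsIso.comp_isIso _ _ _ _ _ c _ hc (@IsIso.comp_isIso _ _ _ _ _ _ iso.hom hd inferInstance)
    have key : ∀ t', t' = t → ∃ h : Formal.smulFamily (J ^ (n + 1)) N ≫ t' = 0, IsIso (cokernel.desc _ t' h) := by
      rintro _ rfl
      exact ⟨h0, h2⟩
    exact key _ hT

variable [IsAdicComplete J A] [IsProper (W ↘ Spec (CommRingCat.of A))]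

include hi φ hL in
/-- **Algebraisation of an invertible system.** -/
theorem exists_invertible (hinv : ∀ n, PicF.IsInvertible (L n)) :
    ∃ M : W.Modules, PicF.IsInvertible M ∧ ∀ n, Nonempty (pb (e n) M ≅ L n) := by
  obtain ⟨M, hM, ⟨η⟩⟩ := FormalCohLib.exists_algebraisation_proper J W
    (isCohFormal_formalMod T e he hi L φ hL)
  have : Coh.IsQCoh M := hM.1
  have : ∀ n, IsClosedImmersion (e n) := isClosedImmersion_e T e he
  have hiso : ∀ n, Nonempty (pb (e n) M ≅ L n) := fun n => by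
    let u : (GrSysLib.Pf (e n)).obj (pb (e n) M) ≅ (GrSysLib.Pf (e n)).obj (L n) :=
      (modPowIso T e he n M).symm ≪≫ η.app (op n)
    have h1 := CycKSuppLib.isIso_counit (e n) (pb (e n) M)
    have h2 := CycKSuppLib.isIso_counit (e n) (L n)
    exact ⟨(@asIso _ _ _ _ _ h1).symm ≪≫ (Scheme.Modules.pullback (e n)).mapIso u ≪≫ @asIso _ _ _ _ _ h2⟩
  refine ⟨M, ?_, hiso⟩
  have hinv' : ∀ n, PicF.IsInvertible (pb (e n) M) := fun n =>
    HilbPolyLib.isInvertible_of_iso (hiso n).some.symm (hinv n)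
  choose V t hzV hV using exists_genAt T e he hi hM hinv'
  have htop : ⨆ z, V z = ⊤ := by
    by_contra hne
    have hcl : IsClosed ((↑(⨆ z, V z) : Set W)ᶜ) := (⨆ z, V z).isOpen.isClosed_compl
    have hprop : ClSub.IsProperOver (W ↘ Spec (CommRingCat.of A)) ((↑(⨆ z, V z) : Set W)ᶜ) :=
      haveI : IsProper (𝟙 W ≫ (W ↘ Spec (CommRingCat.of A))) := by rw [Category.id_comp]; infer_instance
      ProperOverLib.of_map (𝟙 W) _ _ hcl fun w _ => ⟨w, rfl⟩
    have hnot : ∀ w ∈ ((↑(⨆ z, V z) : Set W)ᶜ), ∃ a ∈ J, a ∉ ((W ↘ Spec (CommRingCat.of A)) w).asIdeal := by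
      intro w hw
      by_contra hall
      push Not at hall
      have hmem : (W ↘ Spec (CommRingCat.of A)) w ∈ Set.range (CohB1.specQuot J 0) := by
        refine (_root_.range_comap_of_surjective _ _ Ideal.Quotient.mk_surjective).ge ?_
        rw [PrimeSpectrum.mem_zeroLocus, Ideal.mk_ker, zero_add, pow_one]
        exact hall
      have hr : w ∈ Set.range (e 0) := by
        obtain ⟨q, rfl⟩ : w ∈ Set.range (pullback.fst (W ↘ Spec (CommRingCat.of A)) (CohB1.specQuot J 0)) :=
          (Scheme.Pullback.range_fst _ _).ge hmem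
        refine ⟨(lvlIso T e he 0).inv q, ?_⟩
        have := congrArg (fun t : CohB1.thick (W ↘ Spec (CommRingCat.of A)) J 0 ⟶ W => t q)
          ((Iso.inv_comp_eq (lvlIso T e he 0)).2 (lvlIso_ι T e he 0).symm)
        exact this
      obtain ⟨z, rfl⟩ := hr
      exact hw (Opens.mem_iSup.2 ⟨z, hzV z⟩)
    have hemp := FormalCohLib.eq_empty_of_isProperOver (I := J) hprop hnot
    exact hne (Opens.ext (Set.compl_empty_iff.1 hemp))
  refine TwistLib.isInvertible_of_genOn V (fun w => Opens.mem_iSup.1 (htop.ge (Opens.mem_top w))) t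
    fun z => TwistLib.genOn_of_genAt (hV z)

include hi in
/-- **Ampleness from the levels.** -/
theorem isAmple_of_levels {M : W.Modules} (hM : PicF.IsInvertible M) (hA : CohB1.IsAmple (pb (e 0) M)) :
    CohB1.IsAmple M := by
  refine (Groth.Agent.S0051.result A W (W ↘ Spec (CommRingCat.of A)) M hM).2 fun F hF => ?_
  have : ∀ n, IsClosedImmersion (e n) := isClosedImmersion_e T e he
  let Ls : ∀ k, (T.X k).Modules := fun k => pb (e k) M
  let Fs : ∀ k, (T.X k).Modules := fun k => pb (e k) F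
  have hpb : ∀ (G : W.Modules) k, Nonempty (pb (T.i k) (pb (e (k + 1)) G) ≅ pb (e k) G) := fun G k =>
    ⟨(Scheme.Modules.pullbackComp (T.i k) (e (k + 1))).app G ≪≫
      (Scheme.Modules.pullbackCongr (hi k).symm).app G⟩
  obtain ⟨n₀, hn₀⟩ := Groth.Agent.S5741.result A J T.X T.p T.i T.cart T.proper Ls
    (fun k => AmpleDevLib.isInvertible_pb (e k) hM) (hpb M) hA Fs (fun k => ConsLib.isCoh_pullback (e k) hF) (hpb F)
  refine ⟨n₀, fun n hn p hp => ?_⟩
  let G := CohB1.tensorMod F (CohB1.tensorPow M n)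
  have hP : PicF.IsInvertible (CohB1.tensorPow M n) := AmpleThLib.tensorPow_isInvertible hM n
  have hG : Coh.IsCoh G := SerreVanLib.isCoh_tensor hF hP
  have : Coh.IsQCoh G := hG.1
  have hvan : ∀ k, Subsingleton (Formal.HHmodPow J G p k) := fun k => by
    obtain ⟨b, -⟩ := AmpleDevLib.exists_pullPowIso (e k) hM n
    let u : pb (e k) G ≅ CohB1.tensorMod (Fs k) (CohB1.tensorPow (Ls k) n) :=
      @asIso _ _ _ _ (KFlatLib.pullθ (e k) F (CohB1.tensorPow M n)) (KFlatLib.isIso_pullθ _ _ _) ≪≫ HilbPolyLib.congrRight _ b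
    have h1 : Subsingleton (Coh.HH (T.X k) (pb (e k) G) p) :=
      SerreVanLib.subsingleton_HH_of_iso u p (hn₀ n hn k p hp)
    have : Coh.IsQCoh (pb (e k) G) := KFlatLib.isQCoh_pullback _ _
    obtain ⟨v⟩ := QCohLib.nonempty_HH_push (e k) (pb (e k) G) p
    have h2 : Subsingleton (Coh.HH W ((GrSysLib.Pf (e k)).obj (pb (e k) G)) p) := v.symm.toEquiv.subsingleton
    exact SerreVanLib.subsingleton_HH_of_iso (modPowIso T e he k G) p h2
  have hlim : Subsingleton (Formal.HHlim J G p) := ⟨fun a b => Subtype.ext (funext fun k => (hvan k).elim _ _)⟩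
  exact ⟨fun x y => (FormalLib.toHHlim_bijective (A := A) J hG p).1 (Subsingleton.elim _ _)⟩

end AlgzLib

end
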