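import Groth.Agent.AlgzLib.Lift
import Groth.Agent.AmpleThLib.ProjA
import Groth.Agent.FormalCohLib.ClosedAlg
import Groth.Agent.CohCmpLib.PuSec
import Groth.Agent.TwistLib.ProjSymExt
import Groth.Agent.FormalCohLib.ProjAmple

/-!
# An adic system with an ample invertible module is algebraic as a system of schemes
-/

set_option autoImplicit false
universe u

open CategoryTheory CategoryTheory.Limits AlgebraicGeometry Opposite TopologicalSpace
open HomogeneousLocalization AmpleLib
open TwistLib (genSet)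
open KFlatLib (pb puSec)

noncomputable section

namespace AlgzLib

section Proj

variable {X : Scheme.{u}} {R : Type u} [CommRing R] {m : ℕ}

/-- The linear forms. -/
def coordι (m : ℕ) (R : Type u) [CommRing R] : (Fin (m + 1) → R) →ₗ[R] MvPolynomial (Fin (m + 1)) R :=
  Module.Basis.constr (Pi.basisFun R (Fin (m + 1))) R MvPolynomial.X

lemma coordι_mem (c : Fin (m + 1) → R) : coordι m R c ∈ CohB1.polyGrading m R 1 := by
  rw [coordι, Module.Basis.constr_apply_fintype]
  exact sum_mem fun i _ => Submodule.smul_mem _ _ (MvPolynomial.isHomogeneous_X _ i)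

lemma coordι_sym : IsSymmetricAlgebra (coordι m R) :=
  SymmetricAlgebra.IsSymmetricAlgebra.mvPolynomial (Fin (m + 1)) (Pi.basisFun R (Fin (m + 1)))

lemma coordι_basis (k : Fin (m + 1)) : coordι m R (Pi.basisFun R (Fin (m + 1)) k) = MvPolynomial.X k :=
  (Pi.basisFun R (Fin (m + 1))).constr_basis _ _ k

/-- The coordinate sections of `O(1)`. -/
abbrev O1 (m : ℕ) (R : Type u) [CommRing R] : (Proj (CohB1.polyGrading m R)).Modules :=
  Twist.twist (CohB1.polyGrading m R) ((1 : ℕ) : ℤ)

/-- The coordinates as sections. -/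
abbrev glob (k : Fin (m + 1)) : Γ(O1 m R, ⊤) :=
  Twist.globalOf (CohB1.polyGrading m R) ⟨MvPolynomial.X k, MvPolynomial.isHomogeneous_X R k⟩

lemma glob_eq (k : Fin (m + 1)) :
    (show Γ(O1 m R, ⊤) from Twist.globalOf (CohB1.polyGrading m R)
      ⟨coordι m R (Pi.basisFun R (Fin (m + 1)) k), coordι_mem _⟩) = glob k :=
  congrArg (fun t : CohB1.polyGrading m R 1 =>
    (show Γ(O1 m R, ⊤) from Twist.globalOf (CohB1.polyGrading m R) t)) (Subtype.ext (coordι_basis k))

variable {M : X.Modules}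

/-- A morphism to projective space with given sections. -/
theorem exists_rτ (q : X ⟶ Spec (CommRingCat.of R)) (hM : PicF.IsInvertible M) (v : Fin (m + 1) → Γ(M, ⊤))
    (hgen : ∀ y : X, ∃ k, y ∈ genSet hM (v k)) :
    ∃ (r : X ⟶ Proj (CohB1.polyGrading m R)) (_ : r ≫ AmpleThLib.baseA (CohB1.polyGrading m R) = q)
      (τ : pb r (O1 m R) ≅ M), ∀ k, τ.hom.app ⊤ (puSec r (glob k)) = v k := by
  classical
  let b := Pi.basisFun R (Fin (m + 1))
  let ρ := ProjUP.toGlobal q
  let v' : (Fin (m + 1) → R) →+ Γ(M, ⊤) :=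
    AddMonoidHom.mk' (fun c => ∑ i, ρ (c i) • v i)
      (fun c c' => by simp only [Pi.add_apply, map_add, add_smul, Finset.sum_add_distrib])
  have hv : ∀ (a : R) c, v' (a • c) = ρ a • v' c := fun a c => by
    simp only [v', AddMonoidHom.mk'_apply, Finset.smul_sum]
    exact Finset.sum_congr rfl fun i _ => by rw [Pi.smul_apply, smul_eq_mul, map_mul, mul_smul]
  have hb : ∀ k, v' (b k) = v k := fun k => by
    simp only [v', b, AddMonoidHom.mk'_apply, Pi.basisFun_apply]
    rw [Finset.sum_eq_single k (fun i _ hi => by rw [Pi.single_eq_of_ne hi, map_zero, zero_smul])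
      (fun h => absurd (Finset.mem_univ k) h), Pi.single_eq_same, map_one, one_smul]
  obtain ⟨r, hrb, τ, hτ⟩ := TwistLib.SymUP.exists_r_τ (CohB1.polyGrading m R) (coordι m R) coordι_mem coordι_sym
    q M hM v' hv fun y => by
      obtain ⟨k, hk⟩ := hgen y
      exact ⟨b k, show y ∈ genSet hM (v' (b k)) by rw [hb]; exact hk⟩
  refine ⟨r, hrb, τ, fun k => ?_⟩
  rw [← glob_eq k]
  exact (hτ (b k)).trans (hb k)

/-- The charts of such a morphism. -/
theorem preimage_basicOpen (r : X ⟶ Proj (CohB1.polyGrading m R)) (hM : PicF.IsInvertible M)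
    (τ : pb r (O1 m R) ≅ M) (v : Fin (m + 1) → Γ(M, ⊤)) (hτ : ∀ k, τ.hom.app ⊤ (puSec r (glob k)) = v k)
    (k : Fin (m + 1)) :
    r ⁻¹ᵁ Proj.basicOpen (CohB1.polyGrading m R) (MvPolynomial.X k) = genSet hM (v k) := by
  ext y
  change r y ∈ Proj.basicOpen (CohB1.polyGrading m R) (MvPolynomial.X k) ↔ GenAt M (v k) _
  rw [← coordι_basis k, ← TwistLib.SymUP.genAt_pull_iff (CohB1.polyGrading m R) (coordι m R) coordι_mem coordι_sym
    r _ y, ← hτ k]
  refine Iff.trans ?_ (TwistLib.genAt_app_iso τ (W := ⊤) _ _).symm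
  exact Iff.of_eq (congrArg (fun t : Γ(O1 m R, ⊤) => GenAt (pb r (O1 m R)) (W := r ⁻¹ᵁ ⊤) (puSec r t)
    (show y ∈ r ⁻¹ᵁ ⊤ from trivial)) (glob_eq k))

/-- The coordinates on such a chart. -/
theorem coeff (r : X ⟶ Proj (CohB1.polyGrading m R))
    (τ : pb r (O1 m R) ≅ M) (v : Fin (m + 1) → Γ(M, ⊤)) (hτ : ∀ k, τ.hom.app ⊤ (puSec r (glob k)) = v k)
    (k j : Fin (m + 1)) :
    (show Γ(X, r ⁻¹ᵁ Proj.basicOpen (CohB1.polyGrading m R) (MvPolynomial.X k)) from
          r.app _ (Proj.awayToSection (CohB1.polyGrading m R) (MvPolynomial.X k)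
            (TwistLib.frac (CohB1.polyGrading m R) (MvPolynomial.isHomogeneous_X R k)
              (MvPolynomial.isHomogeneous_X R j)))) •
        res M (le_top : r ⁻¹ᵁ Proj.basicOpen (CohB1.polyGrading m R) (MvPolynomial.X k) ≤ ⊤) (v k) =
          res M le_top (v j) := by
  let D := Proj.basicOpen (CohB1.polyGrading m R) (MvPolynomial.X k)
  have hc := TwistLib.frac_smul_globalOf (CohB1.polyGrading m R) (MvPolynomial.isHomogeneous_X R k)
    (MvPolynomial.isHomogeneous_X R j)
  have h1 := congrArg (fun t => τ.hom.app (r ⁻¹ᵁ D) (puSec r t)) hc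
  have h2 : ∀ i, τ.hom.app (r ⁻¹ᵁ D) (puSec r (res (O1 m R) (le_top : D ≤ ⊤) (glob i))) =
        res M (le_top : r ⁻¹ᵁ D ≤ ⊤) (v i) := fun i => by
    rw [← hτ i, TwistLib.puSec_res]
    exact NatTrans.naturality_apply τ.hom.mapPresheaf (homOfLE (le_top : r ⁻¹ᵁ D ≤ ⊤)).op _
  have e1 := congrArg (τ.hom.app (r ⁻¹ᵁ D)) (TwistLib.puSec_smul r
    (show Γ(Proj (CohB1.polyGrading m R), D) from Proj.awayToSection (CohB1.polyGrading m R) (MvPolynomial.X k)
      (TwistLib.frac (CohB1.polyGrading m R) (MvPolynomial.isHomogeneous_X R k) (MvPolynomial.isHomogeneous_X R j)))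
    (res (O1 m R) (le_top : D ≤ ⊤) (glob k)))
  have h3 := (Scheme.Modules.Hom.app_smul τ.hom _ _).symm.trans (e1.symm.trans h1)
  exact ((congrArg (_ • ·) (h2 k)).symm.trans h3).trans (h2 j)

/-- Enough sections give a closed immersion. -/
theorem isClosedImmersion_of_τ (q : X ⟶ Spec (CommRingCat.of R)) [IsProper q] (hM : PicF.IsInvertible M)
    (r : X ⟶ Proj (CohB1.polyGrading m R)) (hrb : r ≫ AmpleThLib.baseA (CohB1.polyGrading m R) = q)
    (τ : pb r (O1 m R) ≅ M) (v : Fin (m + 1) → Γ(M, ⊤)) (hτ : ∀ k, τ.hom.app ⊤ (puSec r (glob k)) = v k)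
    (K : Set (Fin (m + 1))) (hcov : ∀ x : X, ∃ k ∈ K, x ∈ genSet hM (v k))
    (haff : ∀ k ∈ K, IsAffineOpen (genSet hM (v k)))
    (hsurj : ∀ k ∈ K, Subring.closure (Set.range (q.appLE ⊤ (genSet hM (v k)) le_top) ∪
      {c | ∃ l, c • res M (le_top : genSet hM (v k) ≤ ⊤) (v k) = res M le_top (v l)}) = ⊤) :
    IsClosedImmersion r := by
  have hpre := preimage_basicOpen r hM τ v hτ
  have hcoef := coeff r τ v hτ
  let p := AmpleThLib.baseA (R := R) (CohB1.polyGrading m R)
  have : IsProper (r ≫ p) := by rw [hrb]; infer_instance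
  have : IsSeparated p := by simp only [p, AmpleThLib.baseA]; infer_instance
  have : IsProper r := IsProper.of_comp r p
  have : IsImmersion r := by
    refine AmpleThLib.isImmersion_of_local r
      (fun k : K => Proj.basicOpen (CohB1.polyGrading m R) (MvPolynomial.X (k : Fin (m + 1)))) (fun x => ?_)
      (fun ⟨k, hk⟩ => ?_)
    · obtain ⟨k, hk, hx⟩ := hcov x
      exact ⟨⟨k, hk⟩, (hpre k).ge hx⟩
    · let D := Proj.basicOpen (CohB1.polyGrading m R) (MvPolynomial.X k)
      have : IsAffine (r ⁻¹ᵁ D).toScheme := (hpre k).symm ▸ haff k hk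
      have : IsAffine D.toScheme :=
        Proj.isAffineOpen_basicOpen _ _ (MvPolynomial.isHomogeneous_X R k) one_pos
      refine IsClosedImmersion.of_surjective_of_isAffine _ ?_
      rw [Scheme.Hom.appTop, morphismRestrict_app']
      refine AmpleThLib.surjective_appLE_congr r D.ι_image_top.symm
        ((hpre k).symm.trans (Scheme.Opens.ι_image_top _).symm) (hpre k).ge _ ?_
      intro a
      suffices h : a ∈ (r.appLE D _ (hpre k).ge).hom.range from h
      refine (show Subring.closure _ ≤ _ from Subring.closure_le.mpr ?_) ((hsurj k hk).ge (Subring.mem_top a))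
      rintro _ (⟨y, rfl⟩ | ⟨l, hl⟩)
      · refine ⟨p.appLE ⊤ D le_top y, ?_⟩
        rw [← CommRingCat.comp_apply, Scheme.Hom.appLE_comp_appLE]
        simp only [p, hrb]
      · refine ⟨Proj.awayToSection (CohB1.polyGrading m R) (MvPolynomial.X k)
          (TwistLib.frac (CohB1.polyGrading m R) (MvPolynomial.isHomogeneous_X R k)
            (MvPolynomial.isHomogeneous_X R l)), ?_⟩
        refine (TwistLib.genSet_genOn hM (v k) _ le_rfl).1 ?_
        dsimp only
        rw [res_res, hl]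
        have h1 := congrArg (res _ (hpre k).ge) (hcoef k l)
        rw [res_smul, res_res, res_res] at h1
        refine Eq.trans ?_ h1
        congr 1
  exact IsClosedImmersion.of_isPreimmersion r r.isClosedMap.isClosed_range

end Proj

variable {A : Type u} [CommRing A] [IsNoetherianRing A] {J : Ideal A} (T : GrSysLib.Thick A J)
variable (L : ∀ k, (T.X k).Modules) (hL : ∀ k, PicF.IsInvertible (L k))
  (φ : ∀ k, (Scheme.Modules.pullback (T.i k)).obj (L (k + 1)) ≅ L k) (hA : CohB1.IsAmple (L 0))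

lemma surjective_specQuotTrans (k : ℕ) : Surjective (CohB1.specQuotTrans J k) := by
  refine ⟨fun x => _root_.range_comap_of_surjective _ _  (GrSysLib.surjective_qmap_ring (Nat.le_succ k)) |>.ge ?_⟩
  rw [PrimeSpectrum.mem_zeroLocus]
  refine fun a ha => ?_
  obtain ⟨b, rfl⟩ := Ideal.Quotient.mk_surjective a
  rw [SetLike.mem_coe, RingHom.mem_ker, Ideal.Quotient.factor_mk, Ideal.Quotient.eq_zero_iff_mem] at ha
  refine (x : PrimeSpectrum _).isPrime.mem_of_pow_mem (k + 2) ?_
  have h0 : Ideal.Quotient.mk (J ^ (k + 2)) b ^ (k + 2) = 0 := by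
    rw [← map_pow, Ideal.Quotient.eq_zero_iff_mem]
    exact Ideal.pow_mem_pow (Ideal.pow_le_self (Nat.succ_ne_zero k) ha) _
  rw [h0]
  exact Submodule.zero_mem _

lemma surjective_i (k : ℕ) : Surjective (T.i k) :=
  have := surjective_specQuotTrans (J := J) k
  FComplLib.surjective_of_isPullback (T.cart k)

variable [IsAdicComplete J A]

include hL φ hA in
/-- **Algebraisation of the schemes.** -/
theorem exists_scheme : ∃ (Y : Scheme.{u}) (g : Y ⟶ Spec (CommRingCat.of A)) (e : ∀ n, T.X n ⟶ Y),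
    IsProper g ∧ (∀ n, IsPullback (e n) (T.p n) g (CohB1.specQuot J n)) ∧ ∀ n, e n = T.i n ≫ e (n + 1) := by
  classical
  let q : ∀ k, T.X k ⟶ Spec (CommRingCat.of A) := fun k => T.p k ≫ CohB1.specQuot J k
  have hq : ∀ k, IsProper (q k) := fun k => GrSysLib.isProper_over T k
  obtain ⟨n₀, hn₀⟩ := AmpleThLib.exists_data (q 0) (hL 0) hA
  obtain ⟨n₁, hn₁⟩ := exists_lift_bound T L hL φ hA
  let d := max n₀ n₁
  obtain ⟨m, v₀, K, hcov, haff, hsurj⟩ := hn₀ d (le_max_left _ _)
  let P : ∀ k, (T.X k).Modules := fun k => CohB1.tensorPow (L k) d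
  have hP : ∀ k, PicF.IsInvertible (P k) := fun k => AmpleThLib.tensorPow_isInvertible (hL k) d
  let ψ : ∀ k, pb (T.i k) (P (k + 1)) ≅ P k := fun k => (nonempty_powIso T L hL φ d k).some
  have hlift : ∀ k (s : Γ(P k, ⊤)), ∃ t : Γ(P (k + 1), ⊤), (ψ k).hom.app ⊤ (puSec (T.i k) (U := ⊤) t) = s := by
    intro k s
    obtain ⟨t, ht⟩ := hn₁ d (le_max_right _ _) k ((ψ k).inv.app ⊤ s)
    exact ⟨t, (congrArg ((ψ k).hom.app ⊤) ht).trans (congrArg (fun w => w.app ⊤ s) (ψ k).inv_hom_id)⟩
  let v : ∀ k, Fin (m + 1) → Γ(P k, ⊤) := fun k =>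
    Nat.rec (motive := fun k => Fin (m + 1) → Γ(P k, ⊤)) v₀ (fun k w j => (hlift k (w j)).choose) k
  have hv : ∀ k j, (ψ k).hom.app ⊤ (puSec (T.i k) (U := ⊤) (v (k + 1) j)) = v k j := fun k j =>
    (hlift k (v k j)).choose_spec
  have hgenS : ∀ k j, T.i k ⁻¹ᵁ genSet (hP (k + 1)) (v (k + 1) j) = genSet (hP k) (v k j) := fun k j => by
    rw [← AmpleDevLib.genSet_puSec (T.i k) (hP (k + 1))]
    ext x
    change GenAt _ (W := ⊤) _ _ ↔ GenAt _ _ _
    rw [← hv k j]
    exact (TwistLib.genAt_app_iso (ψ k) (W := ⊤) _ _).symm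
  have hgen : ∀ k (x : T.X k), ∃ j, x ∈ genSet (hP k) (v k j) := fun k => by
    induction k with
    | zero => exact fun x => (hcov x).imp fun j hj => hj.2
    | succ k ih =>
      intro x
      obtain ⟨y, rfl⟩ := (surjective_i T k).surj x
      obtain ⟨j, hj⟩ := ih y
      exact ⟨j, (hgenS k j).ge hj⟩
  choose r hrb τ hτ using fun k => exists_rτ (q k) (hP k) (v k) (hgen k)
  have hcomp : ∀ k, T.i k ≫ r (k + 1) = r k := fun k => by
    let 𝒮 := CohB1.polyGrading m A
    let τ' : pb (T.i k ≫ r (k + 1)) (O1 m A) ≅ pb (r k) (O1 m A) :=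
      ((Scheme.Modules.pullbackComp (T.i k) (r (k + 1))).app (O1 m A)).symm ≪≫
        (Scheme.Modules.pullback (T.i k)).mapIso (τ (k + 1)) ≪≫ ψ k ≪≫ (τ k).symm
    refine TwistLib.SymUP.ext_of_τ 𝒮 (coordι m A) coordι_mem coordι_sym (T.i k ≫ r (k + 1)) (r k) ?_
      (Pi.basisFun A (Fin (m + 1))).span_eq τ' fun x hx => ?_
    · refine (Category.assoc _ _ _).trans ((congrArg (T.i k ≫ ·) (hrb (k + 1))).trans (Eq.trans ?_ (hrb k).symm))
      exact GrSysLib.comp_over T _ _ (GrSysLib.sq_i T k)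
    · obtain ⟨j, rfl⟩ := hx
      rw [glob_eq j]
      let s₁ : Γ(pb (T.i k) (pb (r (k + 1)) (O1 m A)), ⊤) := puSec (T.i k) (puSec (r (k + 1)) (glob j))
      have h1 : ((Scheme.Modules.pullbackComp (T.i k) (r (k + 1))).app (O1 m A)).inv.app ⊤
          (puSec (T.i k ≫ r (k + 1)) (glob j)) = s₁ :=
        (congrArg (((Scheme.Modules.pullbackComp (T.i k) (r (k + 1))).app (O1 m A)).inv.app ⊤)
          (CohCmpLib.pullbackComp_puSec (T.i k) (r (k + 1)) (O1 m A) (glob j)).symm).trans
          (congrArg (fun w => w.app ⊤ s₁)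
            ((Scheme.Modules.pullbackComp (T.i k) (r (k + 1))).app (O1 m A)).hom_inv_id)
      have h2 : ((Scheme.Modules.pullback (T.i k)).map (τ (k + 1)).hom).app ⊤ s₁ =
          puSec (T.i k) (U := ⊤) (v (k + 1) j) :=
        (KFlatLib.puSec_natural (T.i k) (τ (k + 1)).hom (puSec (r (k + 1)) (glob j))).trans
          (congrArg (puSec (T.i k) (U := ⊤)) (hτ (k + 1) j))
      have h3 : (τ k).inv.app ⊤ (v k j) = puSec (r k) (glob j) :=
        (congrArg ((τ k).inv.app ⊤) (hτ k j).symm).trans (congrArg (fun w : pb (r k) (O1 m A) ⟶ pb (r k) (O1 m A) => w.app ⊤ (puSec (r k) (glob j))) (τ k).hom_inv_id)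
      exact (congrArg (fun z => (τ k).inv.app ⊤ ((ψ k).hom.app ⊤
          (((Scheme.Modules.pullback (T.i k)).map (τ (k + 1)).hom).app ⊤ z))) h1).trans
        ((congrArg (fun z => (τ k).inv.app ⊤ ((ψ k).hom.app ⊤ z)) h2).trans
          ((congrArg ((τ k).inv.app ⊤) (hv k j)).trans h3))
  let f := AmpleThLib.baseA (R := A) (CohB1.polyGrading m A)
  have : IsProper f := FormalCohLib.isProper_projToSpec m A
  let z : ∀ k, T.X k ⟶ CohB1.thick f J k := fun k => pullback.lift (r k) (T.p k) (hrb k)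
  have hz1 : ∀ k, z k ≫ CohB1.thickι f J k = r k := fun k => pullback.lift_fst _ _ _
  have hz2 : ∀ k, z k ≫ CohB1.thickToBase f J k = T.p k := fun k => pullback.lift_snd _ _ _
  have hb : ∀ k, IsPullback (CohB1.thickι f J k) (CohB1.thickToBase f J k) f (CohB1.specQuot J k) := fun k =>
    IsPullback.of_hasPullback _ _
  have hT : ∀ k, IsPullback (CohB1.thickTrans f J k) (CohB1.thickToBase f J k) (CohB1.thickToBase f J (k + 1))
      (CohB1.specQuotTrans J k) := fun k => by
    refine IsPullback.of_right ?_ ((pullback.lift_snd _ _ _).trans rfl) (hb (k + 1))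
    rw [FormalCohLib.thickTrans_thickι, CohB1.specQuotTrans_specQuot]
    exact hb k
  have hsq : ∀ k, IsPullback (T.i k) (z k) (z (k + 1)) (CohB1.thickTrans f J k) := fun k => by
    refine IsPullback.of_bot ?_ ?_ (hT k)
    · rw [hz2, hz2]
      exact T.cart k
    · apply pullback.hom_ext
      · refine (Category.assoc _ _ _).trans ((congrArg (T.i k ≫ ·) (hz1 (k + 1))).trans ?_)
        refine (hcomp k).trans ((hz1 k).symm.trans ?_)
        refine (congrArg (z k ≫ ·) (FormalCohLib.thickTrans_thickι J (f := f) k).symm).trans ?_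
        exact (Category.assoc _ _ _).symm
      · refine (Category.assoc _ _ _).trans ((congrArg (T.i k ≫ ·) (hz2 (k + 1))).trans ?_)
        refine (T.cart k).w.trans ?_
        refine (congrArg (· ≫ CohB1.specQuotTrans J k) (hz2 k).symm).trans ?_
        refine (Category.assoc _ _ _).trans ((congrArg (z k ≫ ·) (hT k).w.symm).trans ?_)
        exact (Category.assoc _ _ _).symm
  have : IsLocallyNoetherian (Proj (CohB1.polyGrading m A)) := LocallyOfFiniteType.isLocallyNoetherian f
  have hz : ∀ k, IsClosedImmersion (z k) := fun k => by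
    induction k with
    | zero =>
      have : IsClosedImmersion (r 0) :=
        isClosedImmersion_of_τ (q 0) (hP 0) (r 0) (hrb 0) (τ 0) v₀ (hτ 0) K hcov haff hsurj
      have : IsClosedImmersion (z 0 ≫ CohB1.thickι f J 0) := by rw [hz1]; infer_instance
      exact IsClosedImmersion.of_comp _ (CohB1.thickι f J 0)
    | succ k ih =>
      have := surjective_specQuotTrans (J := J) k
      have : IsClosedImmersion (CohB1.specQuotTrans J k) :=
        GrSysLib.isClosedImmersion_qmap (Nat.le_succ k)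
      have : Surjective (CohB1.thickTrans f J k) := FComplLib.surjective_of_isPullback (hT k)
      have : IsClosedImmersion (CohB1.thickTrans f J k) := FComplLib.isClosedImmersion_of_isPullback (hT k)
      have : IsLocallyNoetherian (CohB1.thick f J (k + 1)) :=
        LocallyOfFiniteType.isLocallyNoetherian (CohB1.thickι f J (k + 1))
      exact FComplLib.isClosedImmersion_of_thickening (hsq k)
  obtain ⟨W, ι, w, hι, hp, hw, hW⟩ := FormalCohLib.exists_closed_subscheme J (f := f) T.X z T.i hz hsq (by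
    rw [hz2]; exact T.proper)
  refine ⟨W, ι ≫ f, w, hp, fun n => ?_, hw⟩
  have h := (hW n).paste_vert (hb n)
  rwa [hz2] at h

end AlgzLib

end
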