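import Groth.Agent.AlgzLib.Bundle
import Groth.Agent.AlgzLib.AffineCmp
import Groth.Agent.FormalCohLib.ProperSupp
import Groth.Agent.FormalCohLib.Supp
import Groth.Agent.SymAlgLib.Pts
import Groth.Agent.S8267

/-!
# Formal finite schemes with proper special fibre are algebraic
-/

set_option autoImplicit false
universe u

open CategoryTheory CategoryTheory.Limits AlgebraicGeometry Opposite TopologicalSpace
open KFlatLib (pb puSec)
open FormalLib (rhoA)

noncomputable section

namespace AlgzLib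

lemma isPullback_thickTrans {A : Type u} [CommRing A] {X : Scheme.{u}} (f : X ⟶ Spec (CommRingCat.of A))
    (J : Ideal A) (k : ℕ) : IsPullback (CohB1.thickTrans f J k) (CohB1.thickToBase f J k)
      (CohB1.thickToBase f J (k + 1)) (CohB1.specQuotTrans J k) := by
  have hb : ∀ k, IsPullback (CohB1.thickι f J k) (CohB1.thickToBase f J k) f (CohB1.specQuot J k) := fun k =>
    IsPullback.of_hasPullback _ _
  refine IsPullback.of_right ?_ ((pullback.lift_snd _ _ _).trans rfl) (hb (k + 1))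
  rw [FormalCohLib.thickTrans_thickι, CohB1.specQuotTrans_specQuot]
  exact hb k

section Push

variable {A : Type u} [CommRing A] [IsNoetherianRing A] {J : Ideal A} (T : GrSysLib.Thick A J)
variable {X : Scheme.{u}} [X.Over (Spec (CommRingCat.of A))] [AlgebraicGeometry.IsNoetherian X]
  (g : ∀ n, T.X n ⟶ X) [∀ n, IsFinite (g n)]
  (hg : ∀ n, g n ≫ (X ↘ Spec (CommRingCat.of A)) = T.X n ↘ Spec (CommRingCat.of A))
  (hi : ∀ n, g n = T.i n ≫ g (n + 1))

/-- The structure sheaves of the levels. -/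
abbrev oSys (k : ℕ) : (T.X k).Modules := Coh.structureModule (T.X k)

/-- Their transition isomorphisms. -/
abbrev oIso (k : ℕ) : pb (T.i k) (oSys T (k + 1)) ≅ oSys T k := KFlatLib.pullUnitIso (T.i k)

omit [IsNoetherianRing A] in
lemma trPush_app (n : ℕ) (U : X.Opens) (r : Γ(T.X (n + 1), g (n + 1) ⁻¹ᵁ U)) :
    (trPush T g (oSys T) (oIso T) hi n).app U r =
      (T.i n).appLE (g (n + 1) ⁻¹ᵁ U) (g n ⁻¹ᵁ U) (by rw [hi n]; rfl) r := by
  let adj := Scheme.Modules.pullbackPushforwardAdjunction (T.i n)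
  have h : adj.unit.app (oSys T (n + 1)) ≫ (GrSysLib.Pf (T.i n)).map (oIso T n).hom =
      SheafOfModules.unitToPushforwardObjUnit (T.i n).toRingCatSheafHom :=
    (adj.homEquiv_unit _ _ _).symm.trans ((adj.homEquiv _ _).apply_symm_apply _)
  have h1 : (GrSysLib.res' T (oSys T) (oIso T) n).app (g (n + 1) ⁻¹ᵁ U) r = (T.i n).app (g (n + 1) ⁻¹ᵁ U) r :=
    congrArg (fun t : oSys T (n + 1) ⟶ (GrSysLib.Pf (T.i n)).obj (oSys T n) => t.app (g (n + 1) ⁻¹ᵁ U) r) h
  refine Eq.trans ?_ (congrArg (fun z => (T.X n).presheaf.map (homOfLE (by rw [hi n]; rfl)).op z) h1)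
  rfl

include hg in
theorem isCohFormal_push : Formal.IsCohFormal J (formalMod T g (oSys T) (oIso T) hi) := by
  have hqc : ∀ k, Coh.IsQCoh (oSys T k) := fun k => QCohLib.isQCoh_unit
  have hcoh : ∀ k, Coh.IsCoh (oSys T k) := fun k => CurvLib.isCoh_of_isInvertible (isInvertible_structureModule _)
  refine ⟨fun n => QCohLib.isCoh_push_finite (g n) _ (hcoh n), fun n => ?_, fun n => ?_⟩
  · exact FormalCohLib.killedBy_push (g n) (hg n)
      (fun a ha => GrSysLib.smulMod_eq_zero (J ^ (n + 1)) (fun _ hb => GrSysLib.toGlobal_eq_zero T n hb) _ ha)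
  · let N := (GrSysLib.Pf (g (n + 1))).obj (oSys T (n + 1))
    let t := trPush T g (oSys T) (oIso T) hi n
    let iso : (GrSysLib.Pf (g (n + 1))).obj ((GrSysLib.Pf (T.i n)).obj (oSys T n)) ≅
        (GrSysLib.Pf (g n)).obj (oSys T n) :=
      (Scheme.Modules.pushforwardComp (T.i n) (g (n + 1))).app (oSys T n) ≪≫
        (Scheme.Modules.pushforwardCongr (hi n).symm).app (oSys T n)
    let d := cokernel.desc _ (GrSysLib.res' T (oSys T) (oIso T) n) (GrSysLib.smulFamily_res' T (oSys T) (oIso T) n)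
    let c := (FormalCohLib.cmp (J := J) (g (n + 1)) (hg (n + 1)) (oSys T (n + 1))).app (op n)
    have hπ : Formal.modPowπ J (n + 1) N ≫ c ≫ (GrSysLib.Pf (g (n + 1))).map d ≫ iso.hom = t := by
      refine (Category.assoc _ _ _).symm.trans ((congrArg (· ≫ _ ≫ iso.hom)
        (FormalCohLib.π_cmp (g (n + 1)) (hg (n + 1)) (oSys T (n + 1)) n)).trans ?_)
      refine (Category.assoc _ _ _).symm.trans ?_
      refine congrArg (· ≫ iso.hom) ?_
      refine ((GrSysLib.Pf (g (n + 1))).map_comp _ _).symm.trans (congrArg (GrSysLib.Pf (g (n + 1))).map ?_)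
      exact cokernel.π_desc _ _ _
    have hT : (formalMod T g (oSys T) (oIso T) hi).map (homOfLE (Nat.le_succ n)).op = t :=
      Functor.ofOpSequence_map_homOfLE_succ _ n
    have h0 : Formal.smulFamily (J ^ (n + 1)) N ≫ t = 0 := by
      rw [← hπ, ← Category.assoc]
      refine (congrArg (· ≫ _) (cokernel.condition (Formal.smulFamily (J ^ (n + 1)) N))).trans zero_comp
    have : IsIso (FormalCohLib.cmp (J := J) (g (n + 1)) (hg (n + 1)) (oSys T (n + 1))) :=
      FormalCohLib.isIso_cmp_of_isAffineHom _ _ (hcoh (n + 1))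
    have : IsIso d := GrSysLib.isIso_desc_res' T (oSys T) (oIso T) n
    have e1 : cokernel.desc _ t h0 = c ≫ (GrSysLib.Pf (g (n + 1))).map d ≫ iso.hom := by
      apply coequalizer.hom_ext
      exact (cokernel.π_desc _ _ _).trans hπ.symm
    have hc : IsIso c := inferInstance
    have hd : IsIso ((GrSysLib.Pf (g (n + 1))).map d) := inferInstance
    have h2 : IsIso (cokernel.desc _ t h0) := by
      rw [e1]
      exact @IsIso.comp_isIso _ _ _ _ _ c _ hc (@IsIso.comp_isIso _ _ _ _ _ _ iso.hom hd inferInstance)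
    have key : ∀ t', t' = t → ∃ h : Formal.smulFamily (J ^ (n + 1)) N ≫ t' = 0, IsIso (cokernel.desc _ t' h) := by
      rintro _ rfl
      exact ⟨h0, h2⟩
    exact key _ hT

include hg in
lemma isProperOver_support [LocallyOfFiniteType (X ↘ Spec (CommRingCat.of A))] :
    ClSub.IsProperOver (X ↘ Spec (CommRingCat.of A))
      (CohB1.support ((formalMod T g (oSys T) (oIso T) hi).obj (op 0))) := by
  have hG := (isCohFormal_push T g hg hi).1 0
  have : IsProper (g 0 ≫ (X ↘ Spec (CommRingCat.of A))) := by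
    rw [hg 0]
    exact GrSysLib.isProper_over T 0
  refine ProperOverLib.of_map (g 0) _ _ (QCohLib.isClosed_support _ hG.2) ?_
  refine FormalCohLib.support_subset_of_affine (g 0).isClosedMap.isClosed_range fun W hW hdis s => ?_
  have e : g 0 ⁻¹ᵁ W = ⊥ := Opens.ext (Set.eq_empty_of_forall_notMem fun y hy =>
    Set.disjoint_left.1 hdis hy ⟨y, rfl⟩)
  have : Subsingleton Γ(T.X 0, g 0 ⁻¹ᵁ W) := by rw [e]; infer_instance
  exact @Subsingleton.elim Γ(T.X 0, g 0 ⁻¹ᵁ W) _ _ _

end Push

/-- **Formal finite schemes with proper special fibre are algebraic.** -/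
theorem exists_finite_algebraisation {A : Type u} [CommRing A] [IsNoetherianRing A] (I : Ideal A) [IsAdicComplete I A]
    {X : Scheme.{u}} (f : X ⟶ Spec (CommRingCat.of A)) [IsSeparated f] [LocallyOfFiniteType f] [QuasiCompact f]
    (Y : ℕ → Scheme.{u}) (y : (n : ℕ) → (Y n ⟶ CohB1.thick f I n)) (t : (n : ℕ) → (Y n ⟶ Y (n + 1)))
    (hy : ∀ n, IsFinite (y n))
    (ht : ∀ n, IsPullback (t n) (y n) (y (n + 1)) (CohB1.thickTrans f I n))
    (hp : IsProper (y 0 ≫ CohB1.thickToBase f I 0)) :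
    ∃ (W : Scheme.{u}) (i : W ⟶ X) (w : (n : ℕ) → (Y n ⟶ W)), IsFinite i ∧
      IsProper (i ≫ f) ∧ (∀ n, w n = t n ≫ w (n + 1)) ∧ ∀ n, IsPullback (w n) (y n) i (CohB1.thickι f I n) := by
  letI : X.Over (Spec (CommRingCat.of A)) := ⟨f⟩
  have : IsSeparated (X ↘ Spec (CommRingCat.of A)) := ‹IsSeparated f›
  have : LocallyOfFiniteType (X ↘ Spec (CommRingCat.of A)) := ‹LocallyOfFiniteType f›
  have : QuasiCompact (X ↘ Spec (CommRingCat.of A)) := ‹QuasiCompact f›
  have : IsLocallyNoetherian X := LocallyOfFiniteType.isLocallyNoetherian (X ↘ Spec (CommRingCat.of A))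
  have : CompactSpace X := QuasiCompact.compactSpace_of_compactSpace (X ↘ Spec (CommRingCat.of A))
  haveI : AlgebraicGeometry.IsNoetherian X := {}
  have hsT : ∀ n, IsPullback (t n) (y n ≫ CohB1.thickToBase f I n) (y (n + 1) ≫ CohB1.thickToBase f I (n + 1))
      (CohB1.specQuotTrans I n) := fun n => (ht n).paste_vert (isPullback_thickTrans f I n)
  let T : GrSysLib.Thick A I := ⟨Y, fun n => y n ≫ CohB1.thickToBase f I n, t, hsT, hp⟩
  let g : ∀ n, T.X n ⟶ X := fun n => y n ≫ CohB1.thickι f I n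
  have hgfin : ∀ n, IsFinite (g n) := fun n => inferInstanceAs (IsFinite (y n ≫ CohB1.thickι f I n))
  have hgo : ∀ n, g n ≫ (X ↘ Spec (CommRingCat.of A)) = T.p n ≫ CohB1.specQuot I n := fun n =>
    (Category.assoc (y n) _ _).trans ((congrArg (y n ≫ ·) (show CohB1.thickι f I n ≫ f =
      CohB1.thickToBase f I n ≫ CohB1.specQuot I n from pullback.condition)).trans (Category.assoc _ _ _).symm)
  have hi : ∀ n, g n = T.i n ≫ g (n + 1) := fun n =>
    (((ht n).w_assoc (CohB1.thickι f I (n + 1))).trans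
      (congrArg (y n ≫ ·) (FormalCohLib.thickTrans_thickι I (f := f) n))).symm
  obtain ⟨M, hM, -, ⟨η⟩⟩ := FormalCohLib.exists_algebraisation_properSupport I X (isCohFormal_push T g hgo hi)
    (isProperOver_support T g hgo hi)
  have : Coh.IsQCoh M := hM.1
  let a : ∀ n, M ⟶ (GrSysLib.Pf (g n)).obj (oSys T n) := fun n => Formal.modPowπ I (n + 1) M ≫ η.hom.app (op n)
  have ha : ∀ n (U : X.Opens) (hU : IsAffineOpen U), Function.Surjective ((a n).app U) := fun n U hU z => by
    obtain ⟨m, hm⟩ := FormalCohLib.app_modPowπ_surjective I M (n + 1) hU ((η.inv.app (op n)).app U z)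
    refine ⟨m, (congrArg ((η.hom.app (op n)).app U) hm).trans ?_⟩
    exact congrArg (fun u : (formalMod T g (oSys T) (oIso T) hi).obj (op n) ⟶
      (formalMod T g (oSys T) (oIso T) hi).obj (op n) => u.app U z) (η.inv_hom_id_app (op n))
  have hat : ∀ n, a (n + 1) ≫ trPush T g (oSys T) (oIso T) hi n = a n := fun n => by
    have hT : trPush T g (oSys T) (oIso T) hi n =
        (formalMod T g (oSys T) (oIso T) hi).map (homOfLE (Nat.le_succ n)).op :=
      (Functor.ofOpSequence_map_homOfLE_succ (X := fun n => (GrSysLib.Pf (g n)).obj (oSys T n))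
        (trPush T g (oSys T) (oIso T) hi) n).symm
    refine (Category.assoc _ _ _).trans ?_
    refine (congrArg (Formal.modPowπ I (n + 1 + 1) M ≫ ·) ((congrArg (η.hom.app (op (n + 1)) ≫ ·)
      hT).trans
        (η.hom.naturality (homOfLE (Nat.le_succ n)).op).symm)).trans ?_
    exact (Category.assoc _ _ _).symm.trans (congrArg (· ≫ η.hom.app (op n))
      (FormalCohLib.π_completion_trLE M (Nat.le_succ n)))
  -- the bundle
  let V := SymAlgLib.symAlg M
  have hV := SymAlgLib.isSymAlg M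
  have hlft : LocallyOfFiniteType V.π := Groth.Agent.S8267.result M hM V _ hV
  have haff : IsAffineHom V.π := inferInstance
  let F := V.π ≫ f
  choose h hh hu using fun n => SymAlgLib.symPts hV (g n) (a n)
  have hh1 : ∀ n, h n ≫ V.π = g n := fun n => (hh n).fst
  have hcomp : ∀ n, T.i n ≫ h (n + 1) = h n := fun n => by
    have hg' : (T.i n ≫ h (n + 1)) ≫ V.π = g n :=
      (Category.assoc _ _ _).trans ((congrArg (T.i n ≫ ·) (hh1 (n + 1))).trans (hi n).symm)
    refine hu n _ ⟨hg', fun W m => ?_⟩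
    obtain ⟨h1, h2⟩ := hh (n + 1)
    rw [← Scheme.Hom.appLE_comp_appLE _ _ _ (g (n + 1) ⁻¹ᵁ W) _ (CycBdlLib.preimage_le h1 W)
      (show g n ⁻¹ᵁ W ≤ T.i n ⁻¹ᵁ (g (n + 1) ⁻¹ᵁ W) by rw [hi n]; rfl), CommRingCat.comp_apply, h2 W m,
      ← trPush_app T g hi n W]
    exact congrArg (fun u : M ⟶ (GrSysLib.Pf (g n)).obj (oSys T n) => u.app W m) (hat n)
  have hci : ∀ n, IsClosedImmersion (h n) := fun n => by
    have : IsAffineHom (h n) := by
      have : IsAffineHom (h n ≫ V.π) := by rw [hh1]; infer_instance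
      exact IsAffineHom.of_comp (h n) V.π
    obtain ⟨h1, h2⟩ := hh n
    refine IsZariskiLocalAtTarget.of_iSup_eq_top (P := @IsClosedImmersion) (fun W : X.affineOpens => V.π ⁻¹ᵁ W.1)
      (by rw [← Scheme.Hom.preimage_iSup, iSup_affineOpens_eq_top]; rfl) fun W => ?_
    obtain ⟨W, hW⟩ := W
    have hWa : IsAffineOpen (V.π ⁻¹ᵁ W) := hW.preimage V.π
    haveI : IsAffine (V.π ⁻¹ᵁ W : V.spec.Opens) := hWa
    haveI : IsAffine (h n ⁻¹ᵁ (V.π ⁻¹ᵁ W) : (T.X n).Opens) := hWa.preimage (h n)
    refine IsClosedImmersion.of_surjective_of_isAffine _ ?_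
    have e : g n ⁻¹ᵁ W = h n ⁻¹ᵁ (V.π ⁻¹ᵁ W) := by rw [← Scheme.Hom.comp_preimage, hh1]
    rw [morphismRestrict_appTop]
    have h3 : Function.Surjective ((h n).app (V.π ⁻¹ᵁ W)) := fun z => by
      obtain ⟨m, hm⟩ := ha n W hW ((T.X n).presheaf.map (homOfLE e.le).op z)
      haveI : IsIso ((T.X n).presheaf.map (homOfLE e.le).op) := by
        rw [show homOfLE e.le = eqToHom e from Subsingleton.elim _ _]
        infer_instance
      refine ⟨(CycBdlLib.univMap (SymAlgLib.symι M)).app W m,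
        (ConcreteCategory.bijective_of_isIso ((T.X n).presheaf.map (homOfLE e.le).op)).1 ?_⟩
      exact (h2 W m).trans hm
    have h4 : Function.Surjective ((h n).app ((V.π ⁻¹ᵁ W).ι ''ᵁ ⊤)) := by
      rw [Scheme.Opens.ι_image_top]
      exact h3
    intro z
    obtain ⟨z₁, hz₁⟩ := (ConcreteCategory.bijective_of_isIso
      ((T.X n).presheaf.map (eqToHom (image_morphismRestrict_preimage (h n) (V.π ⁻¹ᵁ W) ⊤)).op)).2 z
    obtain ⟨a', ha'⟩ := h4 z₁
    exact ⟨a', (congrArg _ ha').trans hz₁⟩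
  let z : ∀ n, T.X n ⟶ CohB1.thick F I n := fun n => pullback.lift (h n) (T.p n)
    ((Category.assoc _ _ _).symm.trans ((congrArg (· ≫ f) (hh1 n)).trans (hgo n)))
  have hz1 : ∀ n, z n ≫ CohB1.thickι F I n = h n := fun n => pullback.lift_fst _ _ _
  have hz2 : ∀ n, z n ≫ CohB1.thickToBase F I n = T.p n := fun n => pullback.lift_snd _ _ _
  have hzc : ∀ n, IsClosedImmersion (z n) := fun n => by
    have : IsClosedImmersion (z n ≫ CohB1.thickι F I n) := by rw [hz1]; exact hci n
    exact IsClosedImmersion.of_comp _ (CohB1.thickι F I n)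
  have hsq : ∀ n, IsPullback (T.i n) (z n) (z (n + 1)) (CohB1.thickTrans F I n) := fun n => by
    refine IsPullback.of_bot ?_ ?_ (isPullback_thickTrans F I n)
    · rw [hz2, hz2]
      exact T.cart n
    · apply pullback.hom_ext
      · refine (Category.assoc _ _ _).trans ((congrArg (T.i n ≫ ·) (hz1 (n + 1))).trans ?_)
        refine (hcomp n).trans ((hz1 n).symm.trans ?_)
        refine (congrArg (z n ≫ ·) (FormalCohLib.thickTrans_thickι I (f := F) n).symm).trans ?_
        exact (Category.assoc _ _ _).symm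
      · refine (Category.assoc _ _ _).trans ((congrArg (T.i n ≫ ·) (hz2 (n + 1))).trans ?_)
        refine (T.cart n).w.trans ?_
        refine (congrArg (· ≫ CohB1.specQuotTrans I n) (hz2 n).symm).trans ?_
        refine (Category.assoc _ _ _).trans ((congrArg (z n ≫ ·) (isPullback_thickTrans F I n).w.symm).trans ?_)
        exact (Category.assoc _ _ _).symm
  obtain ⟨W, ι, w, hι, hpW, hw, hW⟩ := FormalCohLib.exists_closed_subscheme I (f := F) T.X z T.i hzc hsq (by
    rw [hz2]; exact T.proper)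
  have hassoc : (ι ≫ V.π) ≫ f = ι ≫ F := Category.assoc _ _ _
  have hip : IsProper ((ι ≫ V.π) ≫ f) := hassoc ▸ hpW
  have : IsProper (ι ≫ V.π) := IsProper.of_comp (ι ≫ V.π) f
  refine ⟨W, ι ≫ V.π, w, (IsFinite.iff_isProper_and_isAffineHom (f := ι ≫ V.π)).2 ⟨inferInstance, inferInstance⟩, hip, hw,
    fun n => ?_⟩
  have hb : IsPullback (CohB1.thickι f I n) (CohB1.thickToBase f I n) f (CohB1.specQuot I n) :=
    IsPullback.of_hasPullback _ _
  have hbF : IsPullback (CohB1.thickι F I n) (CohB1.thickToBase F I n) F (CohB1.specQuot I n) :=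
    IsPullback.of_hasPullback _ _
  refine IsPullback.of_bot ?_ ?_ hb
  · have h1 := (hW n).paste_vert hbF
    rw [hz2] at h1
    rw [hassoc]
    exact h1
  · refine (Category.assoc _ _ _).symm.trans ((congrArg (· ≫ V.π) (hW n).w).trans ?_)
    exact (congrArg (· ≫ V.π) (hz1 n)).trans (hh1 n)

end AlgzLib

end
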