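import Groth.Agent.AlgzLib.Bundle
import Groth.Agent.AlgzLib.Finite
import Groth.Agent.FibVanLib.Noeth

/-!
# Vanishing of twists above a point with ample fibre
-/

set_option autoImplicit false
universe u

open CategoryTheory CategoryTheory.Limits AlgebraicGeometry Opposite TopologicalSpace
open KFlatLib (pb)

noncomputable section

namespace AlgzLib

/-- Uniform vanishing of twists on the truncations. -/
theorem exists_HHmodPow_vanish {A : Type u} [CommRing A] [IsNoetherianRing A] {J : Ideal A} (T : GrSysLib.Thick A J)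
    {W : Scheme.{u}} [W.Over (Spec (CommRingCat.of A))] (e : ∀ n, T.X n ⟶ W)
    (he : ∀ n, IsPullback (e n) (T.p n) (W ↘ Spec (CommRingCat.of A)) (CohB1.specQuot J n))
    (hi : ∀ n, e n = T.i n ≫ e (n + 1)) [AlgebraicGeometry.IsNoetherian W]
    {M : W.Modules} (hM : PicF.IsInvertible M) (hA : CohB1.IsAmple (pb (e 0) M))
    (F : W.Modules) (hF : Coh.IsCoh F) :
    ∃ n₀ : ℕ, ∀ n, n₀ ≤ n → ∀ p, 0 < p → ∀ k,
      Subsingleton (Formal.HHmodPow J (CohB1.tensorMod F (CohB1.tensorPow M n)) p k) := by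
  have : ∀ n, IsClosedImmersion (e n) := isClosedImmersion_e T e he
  let Ls : ∀ k, (T.X k).Modules := fun k => pb (e k) M
  let Fs : ∀ k, (T.X k).Modules := fun k => pb (e k) F
  have hpb : ∀ (G : W.Modules) k, pb (T.i k) (pb (e (k + 1)) G) ≅ pb (e k) G := fun G k =>
    (Scheme.Modules.pullbackComp (T.i k) (e (k + 1))).app G ≪≫
      (Scheme.Modules.pullbackCongr (hi k).symm).app G
  obtain ⟨n₀, hn₀⟩ := GrSysLib.exists_twist_bound T Fs (fun k => ConsLib.isCoh_pullback (e k) hF) (hpb F) Ls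
    (fun k => AmpleDevLib.isInvertible_pb (e k) hM) (hpb M) hA
  refine ⟨n₀, fun n hn p hp k => ?_⟩
  let G := CohB1.tensorMod F (CohB1.tensorPow M n)
  have hP : PicF.IsInvertible (CohB1.tensorPow M n) := AmpleThLib.tensorPow_isInvertible hM n
  have hG : Coh.IsCoh G := SerreVanLib.isCoh_tensor hF hP
  have : Coh.IsQCoh G := hG.1
  obtain ⟨b, -⟩ := AmpleDevLib.exists_pullPowIso (e k) hM n
  let u : pb (e k) G ≅ CohB1.tensorMod (CohB1.tensorPow (Ls k) n) (Fs k) :=
    @asIso _ _ _ _ (KFlatLib.pullθ (e k) F (CohB1.tensorPow M n)) (KFlatLib.isIso_pullθ _ _ _) ≪≫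
      HilbPolyLib.congrRight _ b ≪≫ HilbPolyLib.swapIso _ _
  have h1 : Subsingleton (Coh.HH (T.X k) (pb (e k) G) p) :=
    SerreVanLib.subsingleton_HH_of_iso u p ((hn₀ n hn k).1 p hp)
  have : Coh.IsQCoh (pb (e k) G) := KFlatLib.isQCoh_pullback _ _
  obtain ⟨v⟩ := QCohLib.nonempty_HH_push (e k) (pb (e k) G) p
  have h2 : Subsingleton (Coh.HH W ((GrSysLib.Pf (e k)).obj (pb (e k) G)) p) := v.symm.toEquiv.subsingleton
  exact SerreVanLib.subsingleton_HH_of_iso (modPowIso T e he k G) p h2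

/-- The stalks of higher direct images of high twists vanish above a point with ample fibre. -/
theorem exists_isZero_stalk_rpushAb {X Y : Scheme.{u}} (f : X ⟶ Y) [IsProper f] [IsLocallyNoetherian Y]
    {L : X.Modules} (hL : PicF.IsInvertible L) (M : X.Modules) (hM : Coh.IsCoh M) (y : Y)
    (hy : CohB1.IsAmple (pb (f.fiberι y) L)) :
    ∃ d₀ : ℕ, ∀ d : ℕ, d₀ ≤ d → ∀ p : ℕ, 0 < p →
      IsZero (TopCat.Presheaf.stalk ((Coh.RpushAb f p).obj
        (Coh.toAb (CohB1.tensorMod M (CohB1.tensorPow L d)))).obj y) := by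
  let B : Type u := Y.presheaf.stalk y
  let m : Ideal B := IsLocalRing.maximalIdeal B
  let X₁ : Scheme.{u} := pullback f (Y.fromSpecStalk y)
  let f₁ : X₁ ⟶ Spec (CommRingCat.of B) := pullback.snd f (Y.fromSpecStalk y)
  letI : X₁.Over (Spec (CommRingCat.of B)) := ⟨f₁⟩
  let g : X₁ ⟶ X := pullback.fst f (Y.fromSpecStalk y)
  have hsq : IsPullback g (X₁ ↘ Spec (CommRingCat.of B)) f (Y.fromSpecStalk y) :=
    IsPullback.of_hasPullback _ _
  haveI : IsProper f₁ := MorphismProperty.of_isPullback hsq inferInstance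
  have : IsProper (X₁ ↘ Spec (CommRingCat.of B)) := ‹IsProper f₁›
  have : IsLocallyNoetherian X₁ := LocallyOfFiniteType.isLocallyNoetherian (X₁ ↘ Spec (CommRingCat.of B))
  have : CompactSpace X₁ := QuasiCompact.compactSpace_of_compactSpace (X₁ ↘ Spec (CommRingCat.of B))
  have : AlgebraicGeometry.IsNoetherian X₁ := {}
  have hp0 : IsProper (CohB1.thickToBase f₁ m 0) :=
    MorphismProperty.of_isPullback (IsPullback.of_hasPullback f₁ (CohB1.specQuot m 0)) inferInstance
  let T : GrSysLib.Thick B m := ⟨CohB1.thick f₁ m, CohB1.thickToBase f₁ m, CohB1.thickTrans f₁ m,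
    isPullback_thickTrans f₁ m, hp0⟩
  let e : ∀ n, T.X n ⟶ X₁ := fun n => CohB1.thickι f₁ m n
  have he : ∀ n, IsPullback (e n) (T.p n) (X₁ ↘ Spec (CommRingCat.of B)) (CohB1.specQuot m n) :=
    fun n => IsPullback.of_hasPullback _ _
  have hi : ∀ n, e n = T.i n ≫ e (n + 1) := fun n => (FormalCohLib.thickTrans_thickι m (f := f₁) n).symm
  -- the closed level is the fibre
  let j : Spec (CommRingCat.of (B ⧸ m ^ (0 + 1))) ≅ Spec (Y.residueField y) :=
    Scheme.Spec.mapIso (RingEquiv.toCommRingCatIso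
      (Ideal.quotEquivOfEq (show m = m ^ (0 + 1) by rw [zero_add, pow_one]))).op
  have hj : j.hom ≫ Y.fromSpecResidueField y = CohB1.specQuot m 0 ≫ Y.fromSpecStalk y := by
    rw [Scheme.fromSpecResidueField, ← Category.assoc]
    refine congrArg (· ≫ Y.fromSpecStalk y) ?_
    change Spec.map _ ≫ Spec.map _ = Spec.map _
    rw [← Spec.map_comp]
    rfl
  have H : IsPullback (e 0 ≫ g) (T.p 0 ≫ j.hom) f (Y.fromSpecResidueField y) :=
    ((he 0).paste_horiz hsq).of_iso (Iso.refl _) (Iso.refl _) j (Iso.refl _) (by simp) (by simp)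
      (by simp) (by simp [hj])
  let φ : T.X 0 ≅ f.fiber y := H.isoPullback
  have hφ : φ.hom ≫ f.fiberι y = e 0 ≫ g := H.isoPullback_hom_fst
  have hA : CohB1.IsAmple (pb (e 0) (pb g L)) := by
    refine AmpleDevLib.isAmple_of_iso (AmpleDevLib.isInvertible_pb φ.hom (AmpleDevLib.isInvertible_pb _ hL))
      (AmpleDevLib.isInvertible_pb (e 0) (AmpleDevLib.isInvertible_pb g hL))
      ((Scheme.Modules.pullbackComp _ _).app L ≪≫ (Scheme.Modules.pullbackCongr hφ).app L ≪≫
        ((Scheme.Modules.pullbackComp _ _).app L).symm) ?_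
    exact AmpleDevLib.isAmple_pb φ.hom (AmpleDevLib.isInvertible_pb _ hL) hy
  obtain ⟨d₀, hd₀⟩ := exists_HHmodPow_vanish T e he hi (AmpleDevLib.isInvertible_pb g hL) hA (pb g M)
    (ConsLib.isCoh_pullback g hM)
  refine ⟨d₀, fun d hd p hp => ?_⟩
  let G := CohB1.tensorMod M (CohB1.tensorPow L d)
  have hG : Coh.IsCoh G := SerreVanLib.isCoh_tensor hM (AmpleThLib.tensorPow_isInvertible hL d)
  have : Coh.IsQCoh G := hG.1
  haveI : HasInjectiveResolutions X.Modules := inferInstance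
  obtain ⟨hfin, ⟨c⟩⟩ := FibVanLib.stalk_formal_functions f G hG y p X₁ g hsq
  obtain ⟨b, -⟩ := AmpleDevLib.exists_pullPowIso g hL d
  let u : pb g G ≅ CohB1.tensorMod (pb g M) (CohB1.tensorPow (pb g L) d) :=
    @asIso _ _ _ _ (KFlatLib.pullθ g M (CohB1.tensorPow L d)) (KFlatLib.isIso_pullθ _ _ _) ≪≫
      HilbPolyLib.congrRight _ b
  have hvan : ∀ k, Subsingleton (Formal.HHmodPow m (pb g G) p k) := fun k => by
    exact SerreVanLib.subsingleton_HH_of_iso ((FormalCohLib.complIso m u).app (op k)) p (hd₀ d hd p hp k)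
  have hlim : Subsingleton (Formal.HHlim m (pb g G) p) := ⟨fun a b => Subtype.ext (funext fun n => (hvan n).elim _ _)⟩
  have hc : Subsingleton (AdicCompletion m (((Coh.Rpush f p).obj G).presheaf.stalk y)) :=
    c.toEquiv.subsingleton
  have h1 := (AdicCompletion.eval_surjective m (((Coh.Rpush f p).obj G).presheaf.stalk y) 1).subsingleton
  have hN : Subsingleton (((Coh.Rpush f p).obj G).presheaf.stalk y) := by
    refine Submodule.subsingleton_iff B |>.mp (subsingleton_of_bot_eq_top ?_)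
    refine (Submodule.eq_bot_of_le_smul_of_le_jacobson_bot m _ hfin.fg_top (fun x _ => ?_)
      (IsLocalRing.maximalIdeal_le_jacobson _)).symm
    have h2 := (Submodule.Quotient.mk_eq_zero (m ^ 1 • ⊤ : Submodule B
      (((Coh.Rpush f p).obj G).presheaf.stalk y))).mp (h1.elim (Submodule.Quotient.mk x) 0)
    rwa [pow_one] at h2
  obtain ⟨e'⟩ := RpushLib.nonempty_toAb_rpush_iso f G p
  have he' := (TopCat.Presheaf.stalkFunctor AddCommGrpCat.{u} y).mapIso
    ((CategoryTheory.sheafToPresheaf _ _).mapIso e')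
  exact (AddCommGrpCat.isZero_of_subsingleton (((Coh.Rpush f p).obj G).presheaf.stalk y)).of_iso he'.symm

end AlgzLib
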