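import Groth.Agent.FComplLib.Spf
import Groth.Agent.FComplLib.Completion

/-!
# The levels of the completion of an affine scheme
-/

set_option autoImplicit false
universe u

open CategoryTheory CategoryTheory.Limits AlgebraicGeometry

noncomputable section

namespace AlgzLib

variable {A : Type u} [CommRing A] (I : Ideal A)

theorem ker_specQuot (n : ℕ) :
    (CohB1.specQuot I n).ker = (FSch.idealSpec A I) ^ (n + 1) := by
  rw [CohB1.specQuot, FComplLib.ker_specMap, Ideal.mk_ker, FComplLib.idealSpec_eq, FComplLib.specIdeal_pow]

instance isClosedImmersion_specQuot (n : ℕ) : IsClosedImmersion (CohB1.specQuot I n) :=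
  IsClosedImmersion.spec_of_surjective _ Ideal.Quotient.mk_surjective

/-- The levels of the completion of `Spec A`. -/
def specLevel (n : ℕ) :
    (FSch.completionAlong (Spec (CommRingCat.of A)) (FSch.idealSpec A I)).X n ≅ Spec (CommRingCat.of (A ⧸ I ^ (n + 1))) where
  hom := IsClosedImmersion.lift (CohB1.specQuot I n) (FSch.completionToX _ _ n)
    (le_of_eq ((ker_specQuot I n).trans (Scheme.IdealSheafData.ker_subschemeι _).symm))
  inv := IsClosedImmersion.lift (FSch.completionToX _ _ n) (CohB1.specQuot I n)
    (le_of_eq ((Scheme.IdealSheafData.ker_subschemeι _).trans (ker_specQuot I n).symm))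
  hom_inv_id := by
    rw [← cancel_mono (FSch.completionToX _ _ n), Category.assoc, IsClosedImmersion.lift_fac,
      IsClosedImmersion.lift_fac, Category.id_comp]
  inv_hom_id := by
    rw [← cancel_mono (CohB1.specQuot I n), Category.assoc, IsClosedImmersion.lift_fac,
      IsClosedImmersion.lift_fac, Category.id_comp]

@[reassoc (attr := simp)]
theorem specLevel_hom_specQuot (n : ℕ) :
    (specLevel I n).hom ≫ CohB1.specQuot I n = FSch.completionToX _ _ n :=
  IsClosedImmersion.lift_fac _ _ _

theorem specLevel_trans (n : ℕ) :
    (FSch.completionAlong (Spec (CommRingCat.of A)) (FSch.idealSpec A I)).ι n ≫ (specLevel I (n + 1)).hom =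
      (specLevel I n).hom ≫ CohB1.specQuotTrans I n := by
  rw [← cancel_mono (CohB1.specQuot I (n + 1)), Category.assoc, Category.assoc, specLevel_hom_specQuot,
    CohB1.specQuotTrans_specQuot, specLevel_hom_specQuot]
  exact Scheme.IdealSheafData.inclusion_subschemeι _

end AlgzLib
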