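import Groth.Agent.AlgzLib.SpecLevel

/-!
# A system of fibre products is the completion
-/

set_option autoImplicit false
universe u

open CategoryTheory CategoryTheory.Limits AlgebraicGeometry

noncomputable section

namespace AlgzLib

/-- A system cartesian over the levels of the base is the completion. -/
theorem exists_iso_completionAlong {S Y : Scheme.{u}} (g : Y ⟶ S) (𝓚 : S.IdealSheafData) {𝔛 : FSch.Sys.{u}}
    (f : 𝔛 ⟶ FSch.completionAlong S 𝓚) (e : ∀ n, 𝔛.X n ⟶ Y) (hc : ∀ n, e n = 𝔛.ι n ≫ e (n + 1))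
    (hp : ∀ n, IsPullback (e n) ((f : FSch.Hom _ _).app n) g (FSch.completionToX S 𝓚 n)) :
    ∃ (h : FSch.PowCompat g (𝓚.comap g) 𝓚) (i : 𝔛 ≅ FSch.completionAlong Y (𝓚.comap g)),
      i.hom ≫ FSch.completionMap g (𝓚.comap g) 𝓚 h = f := by
  have h := FComplLib.powCompat_comap g 𝓚
  refine ⟨h, ?_⟩
  have hq := fun n => FComplLib.completion_level_isPullback g 𝓚 h n
  let φ : ∀ n, 𝔛.X n ≅ (FSch.completionAlong Y (𝓚.comap g)).X n := fun n =>
    (hp n).isoPullback ≪≫ (hq n).isoPullback.symm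
  have h1 : ∀ n, (φ n).hom ≫ FSch.completionToX Y (𝓚.comap g) n = e n := fun n => by simp [φ]
  have h2 : ∀ n, (φ n).hom ≫ (FSch.completionMap g (𝓚.comap g) 𝓚 h : FSch.Hom _ _).app n =
      (f : FSch.Hom _ _).app n := fun n => by simp [φ]
  have hι : ∀ n, (FSch.completionAlong Y (𝓚.comap g)).ι n ≫ FSch.completionToX Y (𝓚.comap g) (n + 1) =
      FSch.completionToX Y (𝓚.comap g) n := fun n => Scheme.IdealSheafData.inclusion_subschemeι _
  have hcomm : ∀ n, (φ n).hom ≫ (FSch.completionAlong Y (𝓚.comap g)).ι n = 𝔛.ι n ≫ (φ (n + 1)).hom := fun n => by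
    rw [← cancel_mono (FSch.completionToX Y (𝓚.comap g) (n + 1)), Category.assoc, Category.assoc, hι, h1, h1]
    exact hc n
  have hcomm' : ∀ n, (φ n).inv ≫ 𝔛.ι n = (FSch.completionAlong Y (𝓚.comap g)).ι n ≫ (φ (n + 1)).inv := fun n => by
    rw [Iso.inv_comp_eq, ← Category.assoc, Iso.eq_comp_inv, hcomm]
  exact ⟨⟨⟨fun n => (φ n).hom, hcomm⟩, ⟨fun n => (φ n).inv, hcomm'⟩,
    FSch.Hom.ext (funext fun n => (φ n).hom_inv_id), FSch.Hom.ext (funext fun n => (φ n).inv_hom_id)⟩,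
    FSch.Hom.ext (funext h2)⟩

end AlgzLib
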